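import Cfsg.Agent.Co1FiveCent36.Perm
import Cfsg.Agent.LargeExt10.Co.Final

/-!
An element of order 5 of `C(z)` fixing a non-zero vector of `Q ⧸ ⟨z⟩`, in adapted coordinates.
-/

set_option autoImplicit false

namespace Cfsg.Agent.Co1FiveCent36

open QuadraticMap Cfsg.Agent.Reflections Cfsg.Agent.LargeExtraspecial
open Cfsg.Agent.LargeExt10 Cfsg.Agent.LargeExt10.Co

variable {G : Type*} [Group G] [Finite G] {z : G} {Q : Subgroup G}

/-- Change of coordinates by an element of `Ω`. -/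
noncomputable def coTwist (D : Co z Q) {γ : O8} (hγ : γ ∈ Cfsg.Omega (ZMod 2) ⇑Q8) : Co z Q where
  setup := D.setup
  card := D.card
  c x := act γ (D.c x)
  coords :=
    { mul := fun x hx y hy => by rw [D.coords.mul x hx y hy, act_add]
      surj := fun v => by
        obtain ⟨x, hx, e⟩ := D.coords.surj (act γ⁻¹ v)
        exact ⟨x, hx, by rw [e, act_act_inv]⟩
      ker := fun x hx => ⟨fun h => (D.coords.ker x hx).1 (act_injective γ (h.trans (act_zero γ).symm)),
        fun h => by rw [(D.coords.ker x hx).2 h, act_zero]⟩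
      sq := fun x hx => by rw [act_Q]; exact D.coords.sq x hx
      comm := fun x hx y hy => by rw [act_polar]; exact D.coords.comm x hx y hy }
  ρ g := γ * D.ρ g * γ⁻¹
  ρ_mul hg hh := by rw [D.ρ_mul hg hh]; group
  ρ_act hg hx := by rw [act_mul, act_mul, act_inv_act, D.ρ_act hg hx]
  ρ_ker hg := by rw [conj_eq_one_iff, D.ρ_ker hg]
  ρ_mem hg := mul_mem (mul_mem hγ (D.ρ_mem hg)) (inv_mem hγ)
  ρ_surj {δ} hδ := by
    obtain ⟨g, hg, e⟩ := D.ρ_surj (mul_mem (mul_mem (inv_mem hγ) hδ) hγ)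
    exact ⟨g, hg, by rw [e]; group⟩
  nwc := D.nwc

theorem rho_pow (D : Co z Q) {g : G} (hg : Commute g z) : ∀ n : ℕ, D.ρ (g ^ n) = D.ρ g ^ n
  | 0 => by rw [pow_zero, pow_zero]; exact D.rho_one
  | n + 1 => by rw [pow_succ, pow_succ, D.ρ_mul (hg.pow_left n) hg, rho_pow D hg n]

/-- The data of the element of order 5. -/
structure Five (D : Co z Q) (b : G) : Prop where
  ord : orderOf b = 5
  cz : Commute b z
  rho : D.ρ b = β

theorem exists_five (D : Co z Q) {b : G} (hb : orderOf b = 5) (hbz : Commute b z) {x : G} (hx : x ∈ Q)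
    (hxz : x ∉ Subgroup.zpowers z) (hxb : Commute x b) :
    ∃ (D' : Co z Q) (b' : G), Five D' b' ∧ Subgroup.zpowers b' = Subgroup.zpowers b := by
  haveI : Fact (Nat.Prime 5) := ⟨by norm_num⟩
  have hb5 : b ^ 5 = 1 := hb ▸ pow_orderOf_eq_one b
  have hbQ : b ∉ Q := fun h => by
    have h1 := Subgroup.orderOf_dvd_natCard Q h
    rw [hb, D.card] at h1
    norm_num at h1
  have hρ1 : D.ρ b ≠ 1 := fun e => hbQ ((D.ρ_ker hbz).1 e)
  have hρ : orderOf (D.ρ b) = 5 := orderOf_eq_prime (by rw [← rho_pow D hbz, hb5, D.rho_one]) hρ1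
  obtain ⟨γ, hγ, k, hk⟩ := exists_conj_power (D.ρ_mem hbz) hρ
    (v := D.c x) (fun e => hxz ((D.coords.ker x hx).1 e))
    (by rw [D.ρ_act hbz hx, hxb.symm.eq, mul_inv_cancel_right])
  have hk5 : ¬ 5 ∣ k := fun ⟨m, hm⟩ => hρ1 (by
    rw [hm, pow_mul, β_pow.1, one_pow, conj_eq_one_iff] at hk
    exact hk)
  obtain ⟨m, hm⟩ : ∃ m : ℕ, k * m % 5 = 1 := by
    have h2 : k % 5 ≠ 0 := fun h => hk5 (Nat.dvd_of_mod_eq_zero h)
    have h3 : ∀ r : Fin 5, r.val ≠ 0 → ∃ m : Fin 5, r.val * m.val % 5 = 1 := by decide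
    obtain ⟨m, hm⟩ := h3 ⟨k % 5, Nat.mod_lt _ (by norm_num)⟩ h2
    exact ⟨m.val, by rw [Nat.mul_mod, Nat.mod_eq_of_lt m.isLt]; exact hm⟩
  refine ⟨coTwist D hγ, b ^ m, ⟨?_, hbz.pow_left m, ?_⟩, ?_⟩
  · refine orderOf_eq_prime (by rw [← pow_mul, mul_comm, pow_mul, hb5, one_pow]) fun h => ?_
    rw [← orderOf_dvd_iff_pow_eq_one, hb] at h
    obtain ⟨l, rfl⟩ := h
    rw [Nat.mul_left_comm, Nat.mul_mod_right] at hm
    omega
  · show γ * D.ρ (b ^ m) * γ⁻¹ = β
    rw [rho_pow D hbz, ← conj_pow, hk, ← pow_mul, pow_eq_pow_mod _ β_pow.1, hm, pow_one]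
  · refine le_antisymm (Subgroup.zpowers_le.2 (Subgroup.npow_mem_zpowers b m)) (Subgroup.zpowers_le.2 ?_)
    have : b = (b ^ m) ^ k := by
      rw [← pow_mul, pow_eq_pow_mod _ hb5, mul_comm, hm, pow_one]
    exact (congrArg (· ∈ Subgroup.zpowers (b ^ m)) this).mpr (pow_mem (Subgroup.mem_zpowers (b ^ m)) k)

variable {D : Co z Q} {b : G}

namespace Five

theorem pow5 (h : Five D b) : b ^ 5 = 1 := h.ord ▸ pow_orderOf_eq_one b

theorem ne_one (h : Five D b) : b ≠ 1 := fun e => by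
  have := h.ord; rw [e, orderOf_one] at this; norm_num at this

/-- An element of `Q` commutes with `b` when its vector is fixed by `β`. -/
theorem commute_iff (h : Five D b) {x : G} (hx : x ∈ Q) : Commute x b ↔ act β (D.c x) = D.c x := by
  constructor
  · intro hc
    rw [← h.rho, D.ρ_act h.cz hx, hc.symm.eq, mul_inv_cancel_right]
  · intro hf
    have hq : b * x * b⁻¹ ∈ Q := D.setup.conj_mem h.cz hx
    have he : D.c x = D.c (b * x * b⁻¹) := by rw [← D.ρ_act h.cz hx, h.rho, hf]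
    rcases D.setup.zpowers_cases ((D.coords.eq_iff hx hq).1 he) with e | e
    · exact (mul_inv_eq_iff_eq_mul.1 (inv_mul_eq_one.1 e).symm).symm
    · exfalso
      have e1 : b * x * b⁻¹ = x * z := by rw [← e, mul_inv_cancel_left]
      have hzb : b * z * b⁻¹ = z := by rw [h.cz.eq, mul_inv_cancel_right]
      have step : ∀ n : ℕ, b ^ n * x * (b ^ n)⁻¹ = x * z ^ n := by
        intro n
        induction n with
        | zero => simp
        | succ n ih =>
          calc b ^ (n + 1) * x * (b ^ (n + 1))⁻¹ = b * (b ^ n * x * (b ^ n)⁻¹) * b⁻¹ := by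
                rw [pow_succ']; group
            _ = (b * x * b⁻¹) * (b * z * b⁻¹) ^ n := by rw [ih, conj_pow]; group
            _ = x * z ^ (n + 1) := by rw [e1, hzb, pow_succ', mul_assoc]
      have := step 5
      rw [h.pow5, inv_one, one_mul, mul_one, show (5 : ℕ) = 2 * 2 + 1 from rfl, pow_succ, pow_mul,
        pow_two z, D.setup.z_mul_self, one_pow, one_mul, left_eq_mul] at this
      exact D.setup.z_ne_one this

theorem exists_frame (h : Five D b) : ∃ F : Frame D, Commute F.s b ∧ Commute F.y b := by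
  obtain ⟨F1⟩ := D.exists_frame
  obtain ⟨x, hx, hcx⟩ := D.coords.surj v0
  have hx2 : x * x = 1 := (D.sq_eq_one hx).2 (by rw [hcx, Q_v0])
  have hx1 : x ≠ 1 := fun e => v0_ne (by rw [← hcx, e, D.coords.c_one])
  have hxz : x ≠ z := fun e => v0_ne (by rw [← hcx, e, D.c_z])
  obtain ⟨g, hg⟩ := isConj_iff.1 (F1.isConj_of_mem_Q hx hx2 hx1)
  obtain ⟨y, hy, hcy⟩ := D.coords.surj yy
  refine ⟨⟨_, _, y, D.setup.pair (g := g) (by rw [D.card]; norm_num) (by rw [hg]; exact hx)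
    (by rw [hg]; exact hxz), by rw [hg, hcx], hy, hcy⟩, ?_, ?_⟩
  · show Commute (g * z * g⁻¹) b
    rw [hg]
    exact (h.commute_iff hx).2 (by rw [hcx]; exact β_fix 0)
  · exact (h.commute_iff hy).2 (by rw [hcy]; exact β_fix 1)

end Five

end Cfsg.Agent.Co1FiveCent36
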