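import Cfsg.Agent.Co1FiveCent36.Base

/-!
The centralizer of `b` in `C(z)` and the perfect subgroup inducing the alternating group on the fixed
subspace.
-/

set_option autoImplicit false
set_option maxRecDepth 100000

namespace Cfsg.Agent.Co1FiveCent36

open QuadraticMap Cfsg.Agent.Reflections Cfsg.Agent.LargeExtraspecial
open Cfsg.Agent.LargeExt10 Cfsg.Agent.LargeExt10.Co
open Cfsg.Agent.Forms59.Inv
open scoped commutatorElement

variable {G : Type*} [Group G] [Finite G] {z : G} {Q : Subgroup G}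

/-- The configuration. -/
structure Cfg (D : Co z Q) (b : G) where
  five : Five D b
  F : Frame D
  hs : Commute F.s b
  hy : Commute F.y b
  card_R : Nat.card ↥(Q ⊓ Subgroup.centralizer ({b} : Set G)) = 32

namespace Cfg

variable {D : Co z Q} {b : G} (C : Cfg D b)

/-- The centralizer of `b` in `Q`. -/
noncomputable def R (_C : Cfg D b) : Subgroup G := Q ⊓ Subgroup.centralizer ({b} : Set G)

/-- Its counterpart at `s`. -/
noncomputable def Rs : Subgroup G := C.F.R ⊓ Subgroup.centralizer ({b} : Set G)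

variable {C}

theorem mem_R {x : G} : x ∈ C.R ↔ x ∈ Q ∧ Commute x b := by
  rw [R, Subgroup.mem_inf, Subgroup.mem_centralizer_singleton_iff]
  rfl

theorem mem_Rs {x : G} : x ∈ C.Rs ↔ x ∈ C.F.R ∧ Commute x b := by
  rw [Rs, Subgroup.mem_inf, Subgroup.mem_centralizer_singleton_iff]
  rfl

theorem z_mem : z ∈ C.R := mem_R.2 ⟨D.setup.z_mem, C.five.cz.symm⟩

theorem s_mem : C.F.s ∈ C.R := mem_R.2 ⟨C.F.pair.mem, C.hs⟩

theorem y_mem : C.F.y ∈ C.R := mem_R.2 ⟨C.F.hy, C.hy⟩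

variable (C)

theorem exists_k : ∃ k : G, k * z * k⁻¹ = C.F.s ∧ k * C.F.s * k⁻¹ = z ∧ Commute k b ∧
    C.F.R = Q.map (MulAut.conj k).toMonoidHom ∧ k ∈ C.R ⊔ C.Rs := by
  haveI : Fact (Nat.Prime 5) := ⟨by norm_num⟩
  have hp := C.F.pair
  have hA : Subgroup.zpowers b ≤ Subgroup.centralizer ({C.F.s} : Set G) :=
    Subgroup.zpowers_le.2 (Subgroup.mem_centralizer_singleton_iff.2 C.hs.symm.eq)
  have hodd : Odd (Nat.card (Subgroup.zpowers b)) := by
    rw [Nat.card_zpowers, C.five.ord]; decide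
  have hcb : ∀ {u : G}, u ∈ Subgroup.centralizer (Subgroup.zpowers b : Set G) ↔ Commute u b := by
    intro u
    refine ⟨fun hu => (Subgroup.mem_centralizer_iff.1 hu b (Subgroup.mem_zpowers b)).symm, fun hu => ?_⟩
    refine Subgroup.mem_centralizer_iff.2 fun w hw => ?_
    obtain ⟨n, rfl⟩ := Subgroup.mem_zpowers_iff.1 hw
    exact (hu.symm.zpow_left n).eq
  obtain ⟨t, ht, htb, htz⟩ : ∃ t ∈ C.F.R, Commute t b ∧ t * z * t⁻¹ = C.F.s * z := by
    by_contra hall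
    push Not at hall
    have hz : z ∈ C.F.R ⊓ Subgroup.centralizer (Subgroup.zpowers b : Set G) :=
      ⟨hp.z_mem_right, hcb.2 C.five.cz.symm⟩
    rcases hp.right.zpowers_cases (hp.right.center_fixed hA hodd hz fun u hu => by
      have := (hp.right.conj_cases hu.1 hp.z_mem_right).resolve_right (hall u hu.1 (hcb.1 hu.2))
      exact (mul_inv_eq_iff_eq_mul.1 this).symm) with e | e
    · exact D.setup.z_ne_one e
    · exact hp.ne e.symm
  have htz' : t * z * t⁻¹ = z * C.F.s := by rw [htz, hp.comm.eq]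
  set x := C.F.y
  have hxs : x * C.F.s * x⁻¹ = z * C.F.s := C.F.conj_y_s
  have hxz : x * z * x⁻¹ = z := C.F.conj_y_z
  have hts : t * C.F.s * t⁻¹ = C.F.s := by rw [← (hp.right.z_commute ht).eq, mul_inv_cancel_right]
  have e1 : t * x * t * z * (t * x * t)⁻¹ = C.F.s := by
    calc t * x * t * z * (t * x * t)⁻¹ = t * (x * (t * z * t⁻¹) * x⁻¹) * t⁻¹ := by group
      _ = t * ((x * z * x⁻¹) * (x * C.F.s * x⁻¹)) * t⁻¹ := by rw [htz']; group
      _ = C.F.s := by rw [hxz, hxs, ← mul_assoc z z C.F.s, D.setup.z_mul_self, one_mul, hts]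
  have e2 : t * x * t * C.F.s * (t * x * t)⁻¹ = z := by
    calc t * x * t * C.F.s * (t * x * t)⁻¹ = t * (x * (t * C.F.s * t⁻¹) * x⁻¹) * t⁻¹ := by group
      _ = t * (z * C.F.s) * t⁻¹ := by rw [hts, hxs]
      _ = (t * z * t⁻¹) * (t * C.F.s * t⁻¹) := by group
      _ = z := by rw [htz', hts, mul_assoc, hp.right.z_mul_self, mul_one]
  refine ⟨t * x * t, e1, e2, (htb.mul_left C.hy).mul_left htb, ?_,
    mul_mem (mul_mem (Subgroup.mem_sup_right (mem_Rs.2 ⟨ht, htb⟩)) (Subgroup.mem_sup_left y_mem))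
      (Subgroup.mem_sup_right (mem_Rs.2 ⟨ht, htb⟩))⟩
  obtain ⟨g, hg, hR⟩ := hp.conj
  have hgk : ((t * x * t)⁻¹ * g) * z * ((t * x * t)⁻¹ * g)⁻¹ = z := by
    rw [show (t * x * t)⁻¹ * g * z * ((t * x * t)⁻¹ * g)⁻¹ =
      (t * x * t)⁻¹ * (g * z * g⁻¹) * (t * x * t) by group, hg]
    conv_lhs => rw [← e1]
    group
  have hc : Commute ((t * x * t)⁻¹ * g) z := mul_inv_eq_iff_eq_mul.1 hgk
  rw [hR]
  ext u
  rw [Subgroup.mem_map_equiv, Subgroup.mem_map_equiv, MulAut.conj_symm_apply, MulAut.conj_symm_apply]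
  constructor
  · intro hu
    have := D.setup.conj_mem hc hu
    rwa [show ((t * x * t)⁻¹ * g) * (g⁻¹ * u * g) * ((t * x * t)⁻¹ * g)⁻¹ =
      (t * x * t)⁻¹ * u * (t * x * t) by group] at this
  · intro hu
    have := D.setup.conj_mem hc.inv_left hu
    rwa [show ((t * x * t)⁻¹ * g)⁻¹ * ((t * x * t)⁻¹ * u * (t * x * t)) * ((t * x * t)⁻¹ * g)⁻¹⁻¹ =
      g⁻¹ * u * g by group] at this

/-- An element exchanging `z` and `s` and commuting with `b`. -/
noncomputable def k : G := C.exists_k.choose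

theorem k_z : C.k * z * C.k⁻¹ = C.F.s := C.exists_k.choose_spec.1
theorem k_s : C.k * C.F.s * C.k⁻¹ = z := C.exists_k.choose_spec.2.1
theorem k_b : Commute C.k b := C.exists_k.choose_spec.2.2.1
theorem k_Q : C.F.R = Q.map (MulAut.conj C.k).toMonoidHom := C.exists_k.choose_spec.2.2.2.1
theorem k_mem : C.k ∈ C.R ⊔ C.Rs := C.exists_k.choose_spec.2.2.2.2

theorem mem_Rs_iff {u : G} : u ∈ C.Rs ↔ C.k⁻¹ * u * C.k ∈ C.R := by
  rw [mem_Rs, mem_R, C.k_Q, Subgroup.mem_map_equiv, MulAut.conj_symm_apply]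
  refine and_congr_right fun _ => ⟨fun h => (C.k_b.inv_left.mul_left h).mul_left C.k_b, fun h => ?_⟩
  have := (C.k_b.mul_left h).mul_left C.k_b.inv_left
  rwa [show C.k * (C.k⁻¹ * u * C.k) * C.k⁻¹ = u by group] at this

/-! ### The centralizer in `C(z)` -/

/-- The centralizer of `b` and `z`. -/
noncomputable def C1 (_C : Cfg D b) : Subgroup G :=
  Subgroup.centralizer ({b} : Set G) ⊓ Subgroup.centralizer ({z} : Set G)

variable {C}

theorem mem_C1 {g : G} : g ∈ C.C1 ↔ Commute g b ∧ Commute g z := by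
  rw [C1, Subgroup.mem_inf, Subgroup.mem_centralizer_singleton_iff,
    Subgroup.mem_centralizer_singleton_iff]
  rfl

theorem R_le_C1 : C.R ≤ C.C1 := fun _ hx =>
  mem_C1.2 ⟨(mem_R.1 hx).2, (D.setup.z_commute (mem_R.1 hx).1).symm⟩

theorem b_mem_C1 : b ∈ C.C1 := mem_C1.2 ⟨Commute.refl b, C.five.cz⟩

theorem conj_R {g x : G} (hg : g ∈ C.C1) (hx : x ∈ C.R) : g * x * g⁻¹ ∈ C.R :=
  mem_R.2 ⟨D.setup.conj_mem (mem_C1.1 hg).2 (mem_R.1 hx).1,
    ((mem_C1.1 hg).1.mul_left (mem_R.1 hx).2).mul_left (mem_C1.1 hg).1.inv_left⟩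

theorem rho_CB {g : G} (hg : g ∈ C.C1) : D.ρ g ∈ CB := by
  obtain ⟨hb, hz⟩ := mem_C1.1 hg
  rw [mem_CB, ← C.five.rho, ← D.ρ_mul hz C.five.cz, ← D.ρ_mul C.five.cz hz, hb.eq]

variable (C)

/-- The representation on the fixed subspace. -/
noncomputable def ρ1 : ↥C.C1 →* ↥CB where
  toFun g := ⟨D.ρ g, rho_CB g.2⟩
  map_one' := Subtype.ext D.rho_one
  map_mul' g h := Subtype.ext (D.ρ_mul (mem_C1.1 g.2).2 (mem_C1.1 h.2).2)

/-- The permutations of the five points. -/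
noncomputable def χ : ↥C.C1 →* Equiv.Perm (Fin 5) := θP.comp C.ρ1

variable {C}

theorem χ_spec (g : ↥C.C1) (j : Fin 5) : act (D.ρ g) (pP j) = pP (C.χ g j) := θP_spec (C.ρ1 g) j

theorem χ_even (g : ↥C.C1) : C.χ g ∈ alternatingGroup (Fin 5) := by
  rw [← range_θP]
  exact ⟨C.ρ1 g, D.ρ_mem (mem_C1.1 g.2).2, rfl⟩

theorem χ_ker {g : ↥C.C1} (h : C.χ g = 1) : ∃ i : ℕ, (g : G) * (b ^ i)⁻¹ ∈ C.R := by
  obtain ⟨i, hi⟩ := θP_ker h
  replace hi : D.ρ g = β ^ i := hi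
  obtain ⟨hb, hz⟩ := mem_C1.1 g.2
  have hbz := C.five.cz.pow_left i
  refine ⟨i, mem_R.2 ⟨(D.ρ_ker (hz.mul_left hbz.inv_left)).1 ?_,
    hb.mul_left ((Commute.refl b).pow_left i).inv_left⟩⟩
  rw [D.ρ_mul hz hbz.inv_left, D.rho_inv hbz, rho_pow D C.five.cz, C.five.rho, hi, mul_inv_cancel]

theorem χ_R {g : ↥C.C1} (h : (g : G) ∈ C.R) : C.χ g = 1 := by
  refine Equiv.ext fun j => pP_inj ?_
  rw [← χ_spec, (D.ρ_ker (mem_C1.1 g.2).2).2 (mem_R.1 h).1, act_one]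
  rfl

theorem χ_b : C.χ ⟨b, b_mem_C1⟩ = 1 := by
  refine Equiv.ext fun j => pP_inj ?_
  rw [← χ_spec]
  show act (D.ρ b) (pP j) = _
  rw [C.five.rho, β_fix]
  rfl

/-- Iterates of a vector under `β`, summed. -/
def sumIt : ℕ → ℕ → ℕ
  | 0, _ => 0
  | n + 1, v => wAct w0 (v ^^^ sumIt n v)

theorem norm_facts : ∀ v : Fin 256, sumIt 5 v.val = 0 →
    ∃ w : Fin 256, wAct w0 (wAct w0 (wAct w0 (wAct w0 w.val))) ^^^ w.val = v.val := by
  decide +kernel

theorem sumIt_lt {v : ℕ} (hv : v < 256) : ∀ n, sumIt n v < 256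
  | 0 => by norm_num [sumIt]
  | n + 1 => (act_β (xor_lt hv (sumIt_lt hv n))).2

/-- Elements of order 5 in `b Q` are conjugate to `b`. -/
theorem conj_of_coset (C : Cfg D b) {q : G} (hq : q ∈ Q) (h5 : (b * q) ^ 5 = 1) :
    ∃ w ∈ Q, b * q = w⁻¹ * b * w := by
  obtain ⟨v, hv, hcv⟩ := vc_surj (D.c q)
  have step : ∀ n : ℕ, ∃ e ∈ Q, (b * q) ^ n = e * b ^ n ∧ D.c e = vc (sumIt n v) := by
    intro n
    induction n with
    | zero => exact ⟨1, one_mem _, by simp, by rw [D.coords.c_one, sumIt, vc_zero]⟩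
    | succ n ih =>
      obtain ⟨e, he, hp, hc⟩ := ih
      refine ⟨b * (q * e) * b⁻¹, D.setup.conj_mem C.five.cz (mul_mem hq he), ?_, ?_⟩
      · rw [pow_succ' (b * q), hp, pow_succ']; group
      · rw [← D.ρ_act C.five.cz (mul_mem hq he), C.five.rho, D.coords.mul _ hq _ he, hc, ← hcv,
          ← vc_xor, (act_β (xor_lt hv (sumIt_lt hv n))).1]
        rfl
  obtain ⟨e, -, hp, hc⟩ := step 5
  rw [h5, C.five.pow5, mul_one] at hp
  rw [← hp, D.coords.c_one, ← vc_zero] at hc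
  obtain ⟨w, hw⟩ := norm_facts ⟨v, hv⟩ (vc_inj (sumIt_lt hv 5) (by norm_num) hc.symm)
  replace hw : wAct w0 (wAct w0 (wAct w0 (wAct w0 w.val))) ^^^ w.val = v := hw
  obtain ⟨x, hx, hcx⟩ := D.coords.surj (vc w.val)
  have hbi : Commute b⁻¹ z := C.five.cz.inv_left
  have hq' : b⁻¹ * x⁻¹ * b⁻¹⁻¹ * x ∈ Q := mul_mem (D.setup.conj_mem hbi (inv_mem hx)) hx
  have hce : D.c (b⁻¹ * x⁻¹ * b⁻¹⁻¹ * x) = D.c q := by
    rw [D.coords.mul _ (D.setup.conj_mem hbi (inv_mem hx)) _ hx, ← D.ρ_act hbi (inv_mem hx),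
      D.coords.c_inv hx, D.rho_inv C.five.cz, C.five.rho, hcx,
      show (β⁻¹ : O8) = β ^ 4 from inv_eq_of_mul_eq_one_left (by rw [← pow_succ]; exact β_pow.1),
      (act_pow_vc (fun k hk => act_β hk) 4 _ w.isLt).1, ← vc_xor, ← hcv, ← hw]
    rfl
  refine ⟨x, hx, ?_⟩
  have e1 : x⁻¹ * b * x = b * (b⁻¹ * x⁻¹ * b⁻¹⁻¹ * x) := by group
  rcases D.setup.zpowers_cases ((D.coords.eq_iff hq' hq).1 hce) with e' | e'
  · rw [e1, inv_mul_eq_one.1 e']
  · exfalso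
    have e2 : b * q = x⁻¹ * b * x * z := by rw [e1, mul_assoc, ← e', mul_inv_cancel_left]
    have hzc : Commute (x⁻¹ * b * x) z :=
      (((D.setup.z_commute hx).symm.inv_left).mul_left C.five.cz).mul_left (D.setup.z_commute hx).symm
    rw [e2, hzc.mul_pow, show (5 : ℕ) = 2 * 2 + 1 from rfl, pow_succ z, pow_mul z, pow_two z,
      D.setup.z_mul_self, one_pow, one_mul] at h5
    rw [show (x⁻¹ * b * x) ^ (2 * 2 + 1) = x⁻¹ * b ^ 5 * x⁻¹⁻¹ by rw [← conj_pow, inv_inv],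
      C.five.pow5, mul_one, mul_inv_cancel, one_mul] at h5
    exact D.setup.z_ne_one h5

theorem χ_surj {σ : Equiv.Perm (Fin 5)} (hσ : σ ∈ alternatingGroup (Fin 5)) : ∃ g, C.χ g = σ := by
  rw [← range_θP] at hσ
  obtain ⟨γ, hγ, rfl⟩ := hσ
  obtain ⟨g, hg, hρ⟩ := D.ρ_surj (γ := γ.1) hγ
  have hz : Commute (g * b * g⁻¹) z := (hg.mul_left C.five.cz).mul_left hg.inv_left
  have hq : b⁻¹ * (g * b * g⁻¹) ∈ Q := (D.ρ_ker (C.five.cz.inv_left.mul_left hz)).1 (by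
    rw [D.ρ_mul C.five.cz.inv_left hz, D.ρ_mul (hg.mul_left C.five.cz) hg.inv_left,
      D.ρ_mul hg C.five.cz, D.rho_inv hg, D.rho_inv C.five.cz, C.five.rho, hρ, mem_CB.1 γ.2]
    group)
  obtain ⟨w, hw, e⟩ := C.conj_of_coset hq (by
    rw [mul_inv_cancel_left, conj_pow, C.five.pow5, mul_one, mul_inv_cancel])
  rw [mul_inv_cancel_left] at e
  have hwz : Commute w z := (D.setup.z_commute hw).symm
  have hgb : Commute (w * g) b := mul_inv_eq_iff_eq_mul.1 (by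
    rw [show w * g * b * (w * g)⁻¹ = w * (g * b * g⁻¹) * w⁻¹ by group, e]; group)
  refine ⟨⟨w * g, mem_C1.2 ⟨hgb, hwz.mul_left hg⟩⟩, ?_⟩
  refine congrArg θP (Subtype.ext ?_)
  show D.ρ (w * g) = γ.1
  rw [D.ρ_mul hwz hg, (D.ρ_ker hwz).2 hw, one_mul, hρ]

/-! ### The derived series -/

variable (C)

/-- The map onto the alternating group. -/
noncomputable def χA : ↥C.C1 →* ↥(alternatingGroup (Fin 5)) := C.χ.codRestrict _ χ_even

theorem χA_surjective : Function.Surjective C.χA := fun σ => by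
  obtain ⟨g, hg⟩ := χ_surj (C := C) σ.2
  exact ⟨g, Subtype.ext hg⟩

theorem derived_surj (n : ℕ) (σ : alternatingGroup (Fin 5)) :
    ∃ g ∈ derivedSeries ↥C.C1 n, C.χA g = σ := by
  haveI := alternatingGroup.isSimpleGroup (α := Fin 5) (by simp)
  have hA : commutator ↥(alternatingGroup (Fin 5)) = ⊤ := by
    rcases IsSimpleGroup.eq_bot_or_eq_top_of_normal (commutator ↥(alternatingGroup (Fin 5)))
      inferInstance with h | h
    · exfalso
      have : ∃ x y : alternatingGroup (Fin 5), x * y ≠ y * x := by decide +kernel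
      obtain ⟨x, y, hxy⟩ := this
      have hm := Subgroup.commutator_mem_commutator (Subgroup.mem_top x) (Subgroup.mem_top y)
      rw [← commutator_def, h, Subgroup.mem_bot, commutatorElement_eq_one_iff_commute] at hm
      exact hxy hm
    · exact h
  have key : ∀ n, (derivedSeries ↥C.C1 n).map C.χA = ⊤ := by
    intro n
    induction n with
    | zero => rw [derivedSeries_zero, Subgroup.map_top_of_surjective _ C.χA_surjective]
    | succ n ih => rw [derivedSeries_succ, Subgroup.map_commutator, ih, ← commutator_def, hA]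
  exact (key n).ge (Subgroup.mem_top σ)

theorem fixed_span : (∀ k : Fin 256, wAct w0 k.val = k.val → ∃ m : Fin 32, cmb ptsP m.val = k.val) ∧
    (∀ k : Fin 256, (∀ j : Fin 5, orth (ptsP.getD j.val 0) k.val = true) →
      ∃ m : Fin 32, cmb ptsM m.val = k.val) ∧
    ptsP.getD 0 0 = (ptsP.getD 1 0 ^^^ ptsP.getD 2 0) ^^^ (ptsP.getD 3 0 ^^^ ptsP.getD 4 0) ∧
    (∀ c ∈ ptsP, ∃ j : Fin 5, c = ptsP.getD j.val 0) ∧ (∀ c ∈ ptsM, ∃ j : Fin 5, c = ptsM.getD j.val 0) := by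
  decide +kernel

theorem exists_three : ∀ i j : Fin 5, ∃ σ ∈ alternatingGroup (Fin 5), σ i = j := by
  simp only [Equiv.Perm.mem_alternatingGroup]
  decide +kernel

theorem c_yy : D.c C.F.y = pP 1 := C.F.hcy

theorem c_s : D.c C.F.s = pP 0 := C.F.hs

theorem R_le_derived : ∀ n, ∀ r : ↥C.C1, (r : G) ∈ C.R → r ∈ derivedSeries ↥C.C1 n
  | 0 => fun r _ => Subgroup.mem_top r
  | n + 1 => by
    have ih := R_le_derived n
    have hcomm : ∀ d ∈ derivedSeries ↥C.C1 n, ∀ r : ↥C.C1, (r : G) ∈ C.R →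
        ⁅d, r⁆ ∈ derivedSeries ↥C.C1 (n + 1) := fun d hd r hr => by
      rw [derivedSeries_succ]; exact Subgroup.commutator_mem_commutator hd (ih r hr)
    let W : AddSubgroup V8 :=
      { carrier := {v | ∃ x : ↥C.C1, x ∈ derivedSeries ↥C.C1 (n + 1) ∧ (x : G) ∈ C.R ∧ D.c x = v}
        zero_mem' := ⟨1, one_mem _, one_mem _, D.coords.c_one⟩
        add_mem' := by
          rintro u v ⟨x, hx, hxR, rfl⟩ ⟨x', hx', hx'R, rfl⟩
          exact ⟨x * x', mul_mem hx hx', mul_mem hxR hx'R,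
            D.coords.mul _ (mem_R.1 hxR).1 _ (mem_R.1 hx'R).1⟩
        neg_mem' := by
          rintro u ⟨x, hx, hxR, rfl⟩
          exact ⟨x, hx, hxR, (neg_eq_of_add_eq_zero_left (add_self_vec _)).symm⟩ }
    have hpair : ∀ i j : Fin 5, pP i + pP j ∈ W := by
      intro i j
      obtain ⟨σ, hσ, hij⟩ := exists_three i j
      obtain ⟨d, hd, hdσ⟩ := C.derived_surj n ⟨σ, hσ⟩
      obtain ⟨x, hx, hcx⟩ := D.coords.surj (pP i)
      have hxb : Commute x b := (C.five.commute_iff hx).2 (by rw [hcx, β_fix])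
      have hxR : x ∈ C.R := mem_R.2 ⟨hx, hxb⟩
      refine ⟨⁅d, ⟨x, R_le_C1 hxR⟩⁆, hcomm d hd _ hxR, ?_, ?_⟩
      · show (d : G) * x * (d : G)⁻¹ * x⁻¹ ∈ C.R
        exact mul_mem (conj_R d.2 hxR) (inv_mem hxR)
      · show D.c ((d : G) * x * (d : G)⁻¹ * x⁻¹) = _
        rw [D.coords.mul _ (D.setup.conj_mem (mem_C1.1 d.2).2 hx) _ (inv_mem hx), D.coords.c_inv hx,
          ← D.ρ_act (mem_C1.1 d.2).2 hx, hcx, χ_spec]
        have : C.χ d = σ := congrArg Subtype.val hdσ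
        rw [this, hij, add_comm]
    have hp : ∀ j : Fin 5, pP j ∈ W := by
      have h0 : pP 0 ∈ W := by
        have : pP 0 = (pP 1 + pP 2) + (pP 3 + pP 4) := by
          simp only [pP, ← vc_xor]
          exact congrArg vc fixed_span.2.2.1
        rw [this]
        exact add_mem (hpair 1 2) (hpair 3 4)
      intro j
      have : pP j = pP 0 + (pP 0 + pP j) := by rw [← add_assoc, add_self_vec, zero_add]
      rw [this]
      exact add_mem h0 (hpair 0 j)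
    have hz : (⟨z, R_le_C1 z_mem⟩ : ↥C.C1) ∈ derivedSeries ↥C.C1 (n + 1) := by
      have e : ⁅(⟨C.F.y, R_le_C1 y_mem⟩ : ↥C.C1), (⟨C.F.s, R_le_C1 s_mem⟩ : ↥C.C1)⁆ =
          ⟨z, R_le_C1 z_mem⟩ := Subtype.ext (by
        show C.F.y * C.F.s * C.F.y⁻¹ * C.F.s⁻¹ = z
        rw [C.F.conj_y_s, mul_inv_cancel_right])
      rw [← e]
      exact hcomm _ (ih _ y_mem) _ s_mem
    intro r hr
    obtain ⟨k, hk, hkr⟩ := vc_surj (D.c r)
    have hfix : wAct w0 k = k := by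
      refine vc_inj (act_β hk).2 hk ?_
      rw [← (act_β hk).1, hkr]
      exact (C.five.commute_iff (mem_R.1 hr).1).1 (mem_R.1 hr).2
    obtain ⟨m, hm⟩ := fixed_span.1 ⟨k, hk⟩ hfix
    replace hm : cmb ptsP m.val = k := hm
    have hcmb : ∀ (L : List ℕ) (i : ℕ), (∀ c ∈ L, vc c ∈ W) → vc (cmb L i) ∈ W := by
      intro L
      induction L with
      | nil => intro i _; rw [cmb, vc_zero]; exact zero_mem W
      | cons c L ih' =>
        intro i hL
        rw [cmb, vc_xor]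
        refine add_mem ?_ (ih' _ fun x hx => hL x (List.mem_cons_of_mem _ hx))
        split
        · exact hL c List.mem_cons_self
        · rw [vc_zero]; exact zero_mem W
    obtain ⟨x, hx, hxR, hcx⟩ : vc k ∈ W := hm ▸ hcmb _ _ fun c hc => by
      obtain ⟨j, rfl⟩ := fixed_span.2.2.2.1 c hc
      exact hp j
    rw [hkr] at hcx
    rcases D.setup.zpowers_cases ((D.coords.eq_iff (mem_R.1 hxR).1 (mem_R.1 hr).1).1 hcx) with e | e
    · rw [← show x = r from Subtype.ext (inv_mul_eq_one.1 e)]; exact hx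
    · rw [show r = x * ⟨z, R_le_C1 z_mem⟩ from Subtype.ext (eq_mul_of_inv_mul_eq e)]
      exact mul_mem hx hz

/-- The perfect part. -/
noncomputable def DD : Subgroup G := (derivedSeries ↥C.C1 4).map C.C1.subtype

variable {C}

theorem DD_le : C.DD ≤ C.C1 := Subgroup.map_subtype_le _

theorem R_le_DD : C.R ≤ C.DD := fun r hr => ⟨⟨r, R_le_C1 hr⟩, C.R_le_derived 4 _ hr, rfl⟩

theorem C1_cases {g : G} (hg : g ∈ C.C1) : ∃ d ∈ C.DD, ∃ i : ℕ, g = d * b ^ i := by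
  obtain ⟨d, hd, hdg⟩ := C.derived_surj 4 (C.χA ⟨g, hg⟩)
  have h1 : C.χ (d⁻¹ * ⟨g, hg⟩) = 1 := by
    rw [map_mul, map_inv, show C.χ d = C.χ ⟨g, hg⟩ from congrArg Subtype.val hdg, inv_mul_cancel]
  obtain ⟨i, hi⟩ := χ_ker h1
  refine ⟨(d : G) * ((d⁻¹ * ⟨g, hg⟩ : ↥C.C1) * (b ^ i)⁻¹), mul_mem ⟨d, hd, rfl⟩ (R_le_DD hi), i, ?_⟩
  push_cast
  group

theorem derived_one_fix : ∀ d ∈ derivedSeries ↥C.C1 1, ∀ j, act (D.ρ d) (pM j) = pM j := by
  let S : Subgroup ↥C.C1 :=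
    { carrier := {d | ∀ j, act (D.ρ d) (pM j) = pM j}
      one_mem' := fun j => by rw [OneMemClass.coe_one, D.rho_one, act_one]
      mul_mem' := fun {d e} hd he j => by
        rw [Subgroup.coe_mul, D.ρ_mul (mem_C1.1 d.2).2 (mem_C1.1 e.2).2, act_mul, he j, hd j]
      inv_mem' := fun {d} hd j => by
        rw [Subgroup.coe_inv, D.rho_inv (mem_C1.1 d.2).2]
        conv_lhs => rw [← hd j, act_inv_act] }
  have hpow : ∀ g : ↥C.C1, ∃ i : ℕ, ∀ j, act (D.ρ g) (pM j) = act (β ^ i) (pM j) := by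
    intro g
    have hg := rho_CB g.2
    obtain ⟨j0, hj0⟩ : ∃ j, act (D.ρ g) (pM 0) = pM j := by
      refine exists_pM (fun h => pM_ne 0 (act_injective (D.ρ g) (h.trans (act_zero _).symm)))
        (by rw [act_Q]; exact Q_pM 0) fun j => ?_
      obtain ⟨i, hi⟩ := (C.χ g).surjective j
      rw [← hi, ← χ_spec, B8, act_polar]
      exact B_PM i 0
    obtain ⟨i, hi⟩ := orbit_facts j0
    refine ⟨i.val, fun j => ?_⟩
    obtain ⟨m, hm⟩ := orbit_facts j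
    have hb : ∀ n : ℕ, act (β ^ n) (pM 0) = vc ((wAct w0)^[n] (ptsM.getD 0 0)) := fun n =>
      (act_pow_vc (fun k hk => act_β hk) n _ (pts_facts.1 0).2.1).1
    have e : pM j = act (β ^ m.val) (pM 0) := by rw [hb, hm]
    rw [e, ← act_mul, ((show Commute (D.ρ g) β from mem_CB.1 hg).pow_right _).eq, act_mul, hj0,
      show pM j0 = act (β ^ i.val) (pM 0) by rw [hb, hi], ← act_mul, ← act_mul, ← pow_add, ← pow_add,
      add_comm]
  intro d hd
  refine (show derivedSeries ↥C.C1 1 ≤ S from ?_) hd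
  rw [derivedSeries_succ, derivedSeries_zero, Subgroup.commutator_le]
  intro x _ y _ j
  obtain ⟨i, hi⟩ := hpow x
  obtain ⟨i', hi'⟩ := hpow y
  obtain ⟨hxz, hyz⟩ := (mem_C1.1 x.2).2, (mem_C1.1 y.2).2
  have hP : ∀ (n : ℕ) (j : Fin 5), ∃ l, act (β ^ n) (pM j) = pM l := fun n j =>
    exists_FixP (pow_mem β_mem_FixP n) j
  have key : act (D.ρ x * D.ρ y) (pM j) = act (D.ρ y * D.ρ x) (pM j) := by
    obtain ⟨l, hl⟩ := hP i' j
    obtain ⟨l', hl'⟩ := hP i j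
    rw [act_mul, act_mul, hi' j, hl, hi l, hi j, hl', hi' l', ← hl, ← hl', ← act_mul, ← act_mul,
      ← pow_add, ← pow_add, add_comm]
  show act (D.ρ ((x : G) * y * (x : G)⁻¹ * (y : G)⁻¹)) (pM j) = pM j
  rw [D.ρ_mul ((hxz.mul_left hyz).mul_left hxz.inv_left) hyz.inv_left,
    D.ρ_mul (hxz.mul_left hyz) hxz.inv_left, D.ρ_mul hxz hyz, D.rho_inv hxz, D.rho_inv hyz]
  obtain ⟨l, hl⟩ : ∃ l, act ((D.ρ x)⁻¹ * (D.ρ y)⁻¹) (pM j) = pM l := by
    refine exists_pM (fun h => pM_ne j (act_injective _ (h.trans (act_zero _).symm)))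
      (by rw [act_Q]; exact Q_pM j) fun q => ?_
    obtain ⟨q1, hq1⟩ := (C.χ (x⁻¹ * y⁻¹)).surjective q
    rw [← hq1, ← χ_spec, Subgroup.coe_mul, Subgroup.coe_inv, Subgroup.coe_inv,
      D.ρ_mul hxz.inv_left hyz.inv_left, D.rho_inv hxz, D.rho_inv hyz, B8, act_polar]
    exact B_PM q1 j
  have e : act (D.ρ x * D.ρ y * (D.ρ x)⁻¹ * (D.ρ y)⁻¹) (pM j) =
      act (D.ρ y * D.ρ x) (act ((D.ρ x)⁻¹ * (D.ρ y)⁻¹) (pM j)) := by
    rw [mul_assoc _ (D.ρ x)⁻¹, act_mul, hl]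
    obtain ⟨m1, hm1⟩ := hP i' l
    obtain ⟨m2, hm2⟩ := hP i l
    rw [act_mul, act_mul, hi' l, hm1, hi m1, hi l, hm2, hi' m2, ← hm1, ← hm2, ← act_mul, ← act_mul,
      ← pow_add, ← pow_add, add_comm]
  rw [e, ← act_mul]
  simp [mul_assoc]

/-- Elements of `Q` centralizing `R`. -/
theorem perp_of_commute_R {x : G} (hx : x ∈ Q) (h : ∀ r ∈ C.R, Commute x r) (j : Fin 5) :
    B8 (pP j) (D.c x) = 0 := by
  obtain ⟨r, hr, hcr⟩ := D.coords.surj (pP j)
  rw [← hcr]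
  exact (D.commute_iff hr hx).1 (h r (mem_R.2 ⟨hr, (C.five.commute_iff hr).2 (by rw [hcr, β_fix])⟩)).symm

theorem fix_perp (g : O8) (hg : ∀ j, act g (pM j) = pM j) {v : V8} (hv : ∀ j, B8 (pP j) v = 0) :
    act g v = v := by
  obtain ⟨k, hk, rfl⟩ := vc_surj v
  obtain ⟨m, hm⟩ := fixed_span.2.1 ⟨k, hk⟩ fun j => orth_true (pts_facts.1 j).1 hk (hv j)
  replace hm : cmb ptsM m.val = k := hm
  conv_rhs => rw [← act_one (Q := Q8) (vc k)]
  rw [← hm]
  refine act_cmb g 1 _ _ fun c hc => ?_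
  obtain ⟨j, rfl⟩ := fixed_span.2.2.2.2 c hc
  rw [act_one]
  exact hg j

theorem derived_two_centralizes {x : G} (hx : x ∈ Q) (hxR : ∀ r ∈ C.R, Commute x r) :
    ∀ d ∈ derivedSeries ↥C.C1 2, Commute (d : G) x := by
  intro d hd
  refine (show derivedSeries ↥C.C1 2 ≤
    (Subgroup.centralizer ({x} : Set G)).subgroupOf C.C1 from ?_) hd |>
    fun h => Subgroup.mem_centralizer_singleton_iff.1 h
  rw [derivedSeries_succ, Subgroup.commutator_le]
  intro a ha c hc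
  rw [Subgroup.mem_subgroupOf, Subgroup.mem_centralizer_singleton_iff]
  have key : ∀ a ∈ derivedSeries ↥C.C1 1, (a : G) * x * (a : G)⁻¹ = x ∨ (a : G) * x * (a : G)⁻¹ = x * z := by
    intro a ha
    have haz := (mem_C1.1 a.2).2
    have e : D.c x = D.c ((a : G) * x * (a : G)⁻¹) := by
      rw [← D.ρ_act haz hx, fix_perp _ (derived_one_fix a ha) (perp_of_commute_R hx hxR)]
    rcases D.setup.zpowers_cases ((D.coords.eq_iff hx (D.setup.conj_mem haz hx)).1 e) with e' | e'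
    · exact Or.inl (inv_mul_eq_one.1 e').symm
    · exact Or.inr (eq_mul_of_inv_mul_eq e')
  have hzfix : ∀ a : ↥C.C1, (a : G) * z * (a : G)⁻¹ = z := fun a => by
    rw [(mem_C1.1 a.2).2.eq, mul_inv_cancel_right]
  have hzz : z * z = 1 := D.setup.z_mul_self
  refine mul_inv_eq_iff_eq_mul.1 ?_
  show (a : G) * c * (a : G)⁻¹ * (c : G)⁻¹ * x * ((a : G) * c * (a : G)⁻¹ * (c : G)⁻¹)⁻¹ = x
  have hcomp : ∀ a c : ↥C.C1, a ∈ derivedSeries ↥C.C1 1 → c ∈ derivedSeries ↥C.C1 1 →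
      (a : G) * ((c : G) * x * (c : G)⁻¹) * (a : G)⁻¹ =
        (c : G) * ((a : G) * x * (a : G)⁻¹) * (c : G)⁻¹ := by
    intro a c ha hc
    rcases key a ha with e1 | e1 <;> rcases key c hc with e2 | e2 <;> rw [e1, e2] <;>
      simp only [← conj_mul, e1, e2, hzfix]
  have h := hcomp a c ha hc
  calc (a : G) * c * (a : G)⁻¹ * (c : G)⁻¹ * x * ((a : G) * c * (a : G)⁻¹ * (c : G)⁻¹)⁻¹
      = (a : G) * ((c : G) * ((a⁻¹ : ↥C.C1) * ((c⁻¹ : ↥C.C1) * x * ((c⁻¹ : ↥C.C1) : G)⁻¹) *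
          ((a⁻¹ : ↥C.C1) : G)⁻¹) * (c : G)⁻¹) * (a : G)⁻¹ := by push_cast; group
    _ = (a : G) * ((c : G) * ((c⁻¹ : ↥C.C1) * ((a⁻¹ : ↥C.C1) * x * ((a⁻¹ : ↥C.C1) : G)⁻¹) *
          ((c⁻¹ : ↥C.C1) : G)⁻¹) * (c : G)⁻¹) * (a : G)⁻¹ := by
        rw [hcomp a⁻¹ c⁻¹ (inv_mem ha) (inv_mem hc)]
    _ = x := by push_cast; group

/-- The centralizer of `R` centralizes the perfect part. -/
theorem commute_DD {m d : G} (hm : m ∈ Subgroup.centralizer (C.R : Set G)) (hd : d ∈ C.DD) :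
    Commute d m := by
  obtain ⟨d, hd4, rfl⟩ := hd
  have hmR : ∀ r ∈ C.R, Commute r m := fun r hr => Subgroup.mem_centralizer_iff.1 hm r hr
  have hmz : Commute m z := (hmR z z_mem).symm
  have hmP : ∀ j, act (D.ρ m) (pP j) = pP j := by
    intro j
    obtain ⟨r, hr, hcr⟩ := D.coords.surj (pP j)
    rw [← hcr, D.ρ_act hmz hr, (hmR r (mem_R.2 ⟨hr, (C.five.commute_iff hr).2 (by rw [hcr, β_fix])⟩)).symm.eq,
      mul_inv_cancel_right]
  set D2 := derivedSeries ↥C.C1 2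
  set R' := Q ⊓ Subgroup.centralizer (C.R : Set G)
  let e : ↥D2 → G := fun d => (d : ↥C.C1).1 * m * (d : ↥C.C1).1⁻¹ * m⁻¹
  have heR : ∀ d : ↥D2, e d ∈ R' := by
    intro d
    have hdz := (mem_C1.1 (d : ↥C.C1).2).2
    refine ⟨(D.ρ_ker (((hdz.mul_left hmz).mul_left hdz.inv_left).mul_left hmz.inv_left)).1 ?_, ?_⟩
    · rw [D.ρ_mul ((hdz.mul_left hmz).mul_left hdz.inv_left) hmz.inv_left,
        D.ρ_mul (hdz.mul_left hmz) hdz.inv_left, D.ρ_mul hdz hmz, D.rho_inv hdz, D.rho_inv hmz,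
        mul_inv_eq_one, mul_inv_eq_iff_eq_mul]
      have hd1 := derived_one_fix _ (derivedSeries_antitone ↥C.C1 (by norm_num : 1 ≤ 2) d.2)
      refine ext_pts (fun j => ?_) fun j => ?_
      · rw [act_mul, act_mul, hmP, χ_spec, hmP]
      · obtain ⟨l, hl⟩ := exists_FixP (g := D.ρ m) hmP j
        rw [act_mul, act_mul, hd1 j, hl, hd1 l]
    · refine Subgroup.mem_centralizer_iff.2 fun r hr => ?_
      have h1 : Commute ((d : ↥C.C1).1 * m * (d : ↥C.C1).1⁻¹) r := by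
        have hr' := conj_R (inv_mem (d : ↥C.C1).2) hr
        have := (Commute.conj_iff (d : ↥C.C1).1).2 (hmR _ hr').symm
        rwa [show (d : ↥C.C1).1 * ((d : ↥C.C1).1⁻¹ * r * (d : ↥C.C1).1⁻¹⁻¹) * (d : ↥C.C1).1⁻¹ = r by
          group] at this
      exact (h1.mul_left (hmR r hr).symm.inv_left).symm.eq
  have hcent : ∀ (d : ↥D2) {x : G}, x ∈ R' → (d : ↥C.C1).1 * x * (d : ↥C.C1).1⁻¹ = x := fun d x hx => by
    rw [(derived_two_centralizes hx.1 (fun r hr => (Subgroup.mem_centralizer_iff.1 hx.2 r hr).symm) _ d.2).eq,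
      mul_inv_cancel_right]
  let f : ↥D2 →* G := MonoidHom.mk' (fun d => (e d)⁻¹) fun d d' => by
    show (e (d * d'))⁻¹ = (e d)⁻¹ * (e d')⁻¹
    rw [← mul_inv_rev, inv_inj]
    calc e (d * d') = (d : ↥C.C1).1 * e d' * (d : ↥C.C1).1⁻¹ * e d := by
          simp only [e, Subgroup.coe_mul]; group
      _ = e d' * e d := by rw [hcent d (heR d')]
  have h3 : ∀ (d : ↥C.C1), d ∈ derivedSeries ↥C.C1 3 → ∃ hd : d ∈ D2, f ⟨d, hd⟩ ∈ Subgroup.zpowers z := by
    intro d hd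
    have hle : derivedSeries ↥C.C1 3 ≤ ((Subgroup.zpowers z).comap f).map D2.subtype := by
      rw [derivedSeries_succ, Subgroup.commutator_le]
      intro a ha c hc
      refine ⟨⁅(⟨a, ha⟩ : ↥D2), ⟨c, hc⟩⁆, ?_, rfl⟩
      rw [SetLike.mem_coe, Subgroup.mem_comap, map_commutatorElement, commutatorElement_def]
      have h1 : ∀ x : ↥D2, f x ∈ Q := fun x => inv_mem (heR x).1
      rcases D.setup.comm_cases (h1 ⟨a, ha⟩) (h1 ⟨c, hc⟩) with e1 | e1 <;> rw [e1]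
      · exact one_mem _
      · exact Subgroup.mem_zpowers z
    obtain ⟨d', hd', rfl⟩ := hle hd
    exact ⟨d'.2, hd'⟩
  obtain ⟨hd2, hfd⟩ : ∃ hd : d ∈ D2, f ⟨d, hd⟩ = 1 := by
    have hle : derivedSeries ↥C.C1 4 ≤ f.ker.map D2.subtype := by
      rw [derivedSeries_succ, Subgroup.commutator_le]
      intro a ha c hc
      obtain ⟨ha2, hfa⟩ := h3 a ha
      obtain ⟨hc2, hfc⟩ := h3 c hc
      refine ⟨⁅(⟨a, ha2⟩ : ↥D2), ⟨c, hc2⟩⁆, ?_, rfl⟩
      rw [SetLike.mem_coe, MonoidHom.mem_ker, map_commutatorElement, commutatorElement_eq_one_iff_commute]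
      obtain ⟨i, hi⟩ := Subgroup.mem_zpowers_iff.1 hfa
      obtain ⟨i', hi'⟩ := Subgroup.mem_zpowers_iff.1 hfc
      rw [← hi, ← hi']
      exact (Commute.refl z).zpow_zpow i i'
    obtain ⟨d', hd', rfl⟩ := hle hd4
    exact ⟨d'.2, hd'⟩
  have := inv_eq_one.1 hfd
  exact mul_inv_eq_iff_eq_mul.1 (mul_inv_eq_one.1 this)

end Cfg

end Cfsg.Agent.Co1FiveCent36
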