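import Cfsg.Agent.Co1FiveCent36.Split
import Cfsg.Agent.J2Uniq57.Main
import Cfsg.Agent.Lib.Components.Basic
import Cfsg.Agent.Lib.Steiner.Ico.Iso

/-!
The centralizer of `b` is the product of `⟨b⟩` and a Hall-Janko group.
-/

set_option autoImplicit false
set_option maxRecDepth 100000

namespace Cfsg.Agent.Co1FiveCent36

open QuadraticMap Cfsg.Agent.Reflections Cfsg.Agent.LargeExtraspecial
open Cfsg.Agent.LargeExt10 Cfsg.Agent.LargeExt10.Co
open Cfsg.Agent.Forms59.Inv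
open Cfsg.Agent.J2Order38

variable {G : Type*} [Group G] [Finite G] {z : G} {Q : Subgroup G}

theorem a5_center : ∀ a : alternatingGroup (Fin 5), (∀ c, c * a = a * c) → a = 1 := by
  decide +kernel

theorem perp_fixed : ∀ k : Fin 256, wAct w0 k.val = k.val →
    (∀ j : Fin 5, orth (ptsP.getD j.val 0) k.val = true) → k.val = 0 := by
  decide +kernel

theorem not_commutative_of_quasisimple {L : Type*} [Group L] (hL : Cfsg.IsQuasisimple L) :
    ¬ ∀ a b : L, a * b = b * a := by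
  intro h
  haveI := hL.2
  obtain ⟨q, hq⟩ := exists_ne (1 : L ⧸ Subgroup.center L)
  obtain ⟨a, rfl⟩ := QuotientGroup.mk'_surjective _ q
  exact hq ((QuotientGroup.eq_one_iff a).2 (Subgroup.mem_center_iff.2 fun g => h g a))

namespace Cfg

variable {D : Co z Q} {b : G} {C : Cfg D b}

theorem pow_four_b (C : Cfg D b) {w : G} (hw : w ∈ Subgroup.zpowers b) (h4 : w ^ 4 = 1) : w = 1 := by
  obtain ⟨i, rfl⟩ := Subgroup.mem_zpowers_iff.1 hw
  have h5 : (b ^ i) ^ 5 = 1 := by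
    rw [← zpow_natCast, ← zpow_mul, mul_comm, zpow_mul, zpow_natCast, C.five.pow5, one_zpow]
  rwa [pow_succ, h4, one_mul] at h5

theorem eq_of_inv_mul_mem (C : Cfg D b) {u v : G} (hu : u ^ 4 = 1) (hv : v ^ 4 = 1)
    (hvb : Commute v b) (h : v⁻¹ * u ∈ Subgroup.zpowers b) : u = v := by
  have hc : Commute v (v⁻¹ * u) := by
    obtain ⟨i, hi⟩ := Subgroup.mem_zpowers_iff.1 h
    rw [← hi]
    exact hvb.zpow_right i
  have h4 : (v⁻¹ * u) ^ 4 = 1 := by
    have := hc.mul_pow 4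
    rwa [mul_inv_cancel_left, hu, hv, one_mul, eq_comm] at this
  exact (inv_mul_eq_one.1 (C.pow_four_b h h4)).symm

theorem four_R {x : G} (hx : x ∈ C.R) : x ^ 4 = 1 := pow_four D (mem_R.1 hx).1

theorem center_R {x : G} (hx : x ∈ C.R) (h : ∀ r ∈ C.R, Commute x r) : x ∈ Subgroup.zpowers z := by
  obtain ⟨hxQ, hxb⟩ := mem_R.1 hx
  refine (D.coords.ker x hxQ).1 ?_
  obtain ⟨k, hk, hkx⟩ := vc_surj (D.c x)
  have hfix : wAct w0 k = k := vc_inj (act_β hk).2 hk (by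
    rw [← (act_β hk).1, hkx]; exact (C.five.commute_iff hxQ).1 hxb)
  have h0 : k = 0 := perp_fixed ⟨k, hk⟩ hfix fun j =>
    orth_true (pts_facts.1 j).1 hk (hkx ▸ perp_of_commute_R hxQ h j)
  rw [← hkx, h0, vc_zero]

theorem cent_R_C1 {g : G} (hg : g ∈ C.C1) (h : ∀ r ∈ C.R, Commute g r) :
    ∃ r ∈ Subgroup.zpowers z, ∃ i : ℕ, g = r * b ^ i := by
  have hM : g ∈ Subgroup.centralizer (C.R : Set G) :=
    Subgroup.mem_centralizer_iff.2 fun r hr => (h r hr).symm.eq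
  have h1 : C.χA ⟨g, hg⟩ = 1 := a5_center _ fun c => by
    obtain ⟨d, hd, rfl⟩ := C.derived_surj 4 c
    rw [← map_mul, ← map_mul]
    exact congrArg C.χA (Subtype.ext (commute_DD hM ⟨d, hd, rfl⟩).eq)
  obtain ⟨i, hi⟩ := χ_ker (congrArg Subtype.val h1)
  refine ⟨g * (b ^ i)⁻¹, center_R hi fun r hr => (h r hr).mul_left ?_, i, by rw [inv_mul_cancel_right]⟩
  exact ((mem_R.1 hr).2.symm.pow_left i).inv_left

theorem R_le_X : C.R ≤ C.DD ⊔ C.DDs := fun _ hr => Subgroup.mem_sup_left (R_le_DD hr)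

theorem Rs_le_X : C.Rs ≤ C.DD ⊔ C.DDs := fun r hr => Subgroup.mem_sup_right (by
  rw [DDs, Subgroup.mem_map_equiv, MulAut.conj_symm_apply]
  exact R_le_DD (C.mem_Rs_iff.1 hr))

theorem X_le : C.DD ⊔ C.DDs ≤ Subgroup.centralizer ({b} : Set G) := by
  refine sup_le (fun d hd => Subgroup.mem_centralizer_singleton_iff.2 (mem_C1.1 (DD_le hd)).1.eq) ?_
  rintro _ ⟨d, hd, rfl⟩
  exact Subgroup.mem_centralizer_singleton_iff.2
    ((C.k_b.mul_left (mem_C1.1 (DD_le hd)).1).mul_left C.k_b.inv_left).eq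

theorem K_cent {g x : G} (hg : g ∈ C.K) (hx : x ∈ C.DD ⊔ C.DDs) : Commute x g := by
  have : C.DD ⊔ C.DDs ≤ Subgroup.centralizer ({g} : Set G) := sup_le
    (fun d hd => Subgroup.mem_centralizer_singleton_iff.2 (commute_DD hg.1 hd).eq)
    (fun d hd => Subgroup.mem_centralizer_singleton_iff.2 (Ms_DDs hg.2 hd).symm.eq)
  exact Subgroup.mem_centralizer_singleton_iff.1 (this hx)

theorem b_mem_K : b ∈ C.K :=
  ⟨mem_M.2 fun _ hr => (mem_R.1 hr).2.symm, mem_Ms.2 fun _ hr => (mem_Rs.1 hr).2.symm⟩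

theorem centralizer_X : Subgroup.centralizer ((C.DD ⊔ C.DDs : Subgroup G) : Set G) = C.K := by
  ext g
  rw [Subgroup.mem_centralizer_iff]
  exact ⟨fun h => ⟨mem_M.2 fun r hr => (h r (R_le_X hr)).symm, mem_Ms.2 fun r hr => (h r (Rs_le_X hr)).symm⟩,
    fun hg x hx => (K_cent hg hx).eq⟩

theorem K_center {g : G} (hg : g ∈ C.K) (h : ∀ u ∈ C.K, Commute g u) : g = 1 := by
  obtain ⟨e⟩ := C.exists_K_equiv
  have : e ⟨g, hg⟩ = 1 := a5_center _ fun c => by
    obtain ⟨u, rfl⟩ := e.surjective c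
    rw [← map_mul, ← map_mul]
    exact congrArg e (Subtype.ext (h u u.2).symm.eq)
  exact congrArg Subtype.val (e.map_eq_one_iff.1 this)

theorem X_inf {x : G} (hx : x ∈ C.DD ⊔ C.DDs) (hK : x ∈ C.K) : x = 1 :=
  K_center hK fun _ hu => K_cent hu hx

variable (C) in
/-- The quotient modulo `⟨b⟩` of a subgroup of `C(b)` containing `C1`, `k` and the counterpart of `R`
is a Hall-Janko group. -/
theorem isoJ2_quot (Y : Subgroup G) (hYb : Y ≤ Subgroup.centralizer ({b} : Set G)) (hC1 : C.C1 ≤ Y)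
    (hk : C.k ∈ Y) (hRs : C.Rs ≤ Y) [((Subgroup.zpowers b).subgroupOf Y).Normal] :
    Cfsg.Spor.IsoJ2 (↥Y ⧸ (Subgroup.zpowers b).subgroupOf Y) := by
  classical
  set N := (Subgroup.zpowers b).subgroupOf Y with hN
  set π := QuotientGroup.mk' N with hπdef
  have hb : ∀ g : ↥Y, Commute (g : G) b := fun g =>
    Subgroup.mem_centralizer_singleton_iff.1 (hYb g.2)
  have hπ : ∀ u v : ↥Y, π u = π v ↔ (u : G)⁻¹ * v ∈ Subgroup.zpowers b := fun u v => by
    rw [hπdef, QuotientGroup.mk'_apply, QuotientGroup.mk'_apply, QuotientGroup.eq, hN,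
      Subgroup.mem_subgroupOf]
    rfl
  have hπ1 : ∀ u : ↥Y, π u = 1 ↔ (u : G) ∈ Subgroup.zpowers b := fun u => by
    rw [hπdef, QuotientGroup.mk'_apply, QuotientGroup.eq_one_iff, hN, Subgroup.mem_subgroupOf]
  have heq : ∀ u v : ↥Y, (u : G) ^ 4 = 1 → (v : G) ^ 4 = 1 → π u = π v → (u : G) = v :=
    fun u v hu hv h => C.eq_of_inv_mul_mem hu hv (hb v) ((hπ v u).1 h.symm)
  have hsq4 : ∀ {u : G}, u * u = 1 → u ^ 4 = 1 := fun {u} h => by
    rw [show (4 : ℕ) = 2 * 2 from rfl, pow_mul, pow_two u, h, one_pow]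
  have hR1 : C.R ≤ Y := R_le_C1.trans hC1
  set P := C.R.subgroupOf Y with hP
  have hP4 : ∀ x ∈ P, ((x : ↥Y) : G) ^ 4 = 1 := fun x hx => four_R (C := C) hx
  have hPR : ∀ x ∈ P, ((x : ↥Y) : G) ∈ C.R := fun x hx => hx
  let zY : ↥Y := ⟨z, hR1 z_mem⟩
  let sY : ↥Y := ⟨C.F.s, hR1 s_mem⟩
  let kY : ↥Y := ⟨C.k, hk⟩
  have hz2 : zY * zY = 1 := Subtype.ext D.setup.z_mul_self
  have hz1 : π zY ≠ 1 := fun h =>
    D.setup.z_ne_one (C.pow_four_b ((hπ1 zY).1 h) (hsq4 D.setup.z_mul_self))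
  have hconj : ∀ (g x : ↥Y), (x : G) ^ 4 = 1 → Commute (π g) (π x) → Commute (g : G) x := by
    intro g x hx h
    refine mul_inv_eq_iff_eq_mul.1 (heq (g * x * g⁻¹) x ?_ hx ?_)
    · show ((g : G) * x * (g : G)⁻¹) ^ 4 = 1
      rw [conj_pow, hx, mul_one, mul_inv_cancel]
    · rw [map_mul, map_mul, map_inv, h.eq, mul_inv_cancel_right]
  have hC : ∀ g : ↥Y, Commute (π g) (π zY) → (g : G) ∈ C.C1 := fun g h =>
    mem_C1.2 ⟨hb g, hconj g zY (hsq4 D.setup.z_mul_self) h⟩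
  have hcard : Nat.card ↥(P.map π) = 32 := by
    have hinj : Function.Injective (π.comp P.subtype) := fun x y h =>
      Subtype.ext (Subtype.ext (heq _ _ (hP4 _ x.2) (hP4 _ y.2) h))
    have hr : (π.comp P.subtype).range = P.map π := by rw [MonoidHom.range_comp, Subgroup.range_subtype]
    rw [← hr, ← Nat.card_congr (MonoidHom.ofInjective hinj).toEquiv,
      Nat.card_congr (Subgroup.subgroupOfEquivOfLe hR1).toEquiv]
    exact C.card_R
  have hsetup : Setup (P.map π) (π zY) := by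
    refine map_setup π (fun x => ⟨2, Subtype.ext (Subtype.ext ?_)⟩) (z_mem (C := C)) hz1 hz2 ?_ ?_ ?_ ?_ ?_ ?_ ?_
    · push_cast; exact hP4 _ x.2
    · intro x hx h
      rcases D.setup.zpowers_cases (center_R (hPR x hx) fun r hr =>
        hconj x ⟨r, hR1 hr⟩ (four_R hr) (h ⟨r, hR1 hr⟩ hr)) with e | e
      · rw [show x = 1 from Subtype.ext e, map_one]; exact one_mem _
      · rw [show x = zY from Subtype.ext e]; exact Subgroup.mem_zpowers _
    · intro y hy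
      rw [← map_mul, ← map_mul]
      exact congrArg π (Subtype.ext (D.setup.z_commute (mem_R.1 (hPR y hy)).1).eq)
    · intro x hx y hy
      rcases D.setup.comm_cases (mem_R.1 (hPR x hx)).1 (mem_R.1 (hPR y hy)).1 with e | e
      · rw [show x * y * x⁻¹ * y⁻¹ = 1 from Subtype.ext e, map_one]; exact one_mem _
      · rw [show x * y * x⁻¹ * y⁻¹ = zY from Subtype.ext e]; exact Subgroup.mem_zpowers _
    · intro x hx
      rcases D.setup.zpowers_cases (D.setup.sq_mem (mem_R.1 (hPR x hx)).1) with e | e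
      · rw [show x * x = 1 from Subtype.ext e, map_one]; exact one_mem _
      · rw [show x * x = zY from Subtype.ext e]; exact Subgroup.mem_zpowers _
    · refine ⟨⟨C.F.y, hR1 y_mem⟩, y_mem (C := C), sY, s_mem (C := C), ?_⟩
      rw [show (⟨C.F.y, hR1 y_mem⟩ : ↥Y) * sY * (⟨C.F.y, hR1 y_mem⟩ : ↥Y)⁻¹ * sY⁻¹ = zY from
        Subtype.ext (by
          show C.F.y * C.F.s * C.F.y⁻¹ * C.F.s⁻¹ = z
          rw [C.F.conj_y_s, mul_inv_cancel_right])]
      exact hz1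
    · intro c hc
      obtain ⟨g, rfl⟩ := QuotientGroup.mk'_surjective N c
      rw [Subgroup.mem_centralizer_iff] at hc
      have hcom : ∀ r ∈ C.R, Commute (g : G) r := fun r hr =>
        hconj g ⟨r, hR1 hr⟩ (four_R hr)
          (show Commute (π g) (π ⟨r, hR1 hr⟩) from (hc _ ⟨⟨r, hR1 hr⟩, hr, rfl⟩).symm)
      obtain ⟨r, hr, i, hgr⟩ := cent_R_C1 (mem_C1.2 ⟨hb g, hcom z z_mem⟩) hcom
      have hrR : r ∈ C.R := Subgroup.zpowers_le.2 z_mem hr
      have hg : π g = π ⟨r, hR1 hrR⟩ := ((hπ _ _).2 (by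
        show r⁻¹ * (g : G) ∈ _
        rw [hgr, inv_mul_cancel_left]; exact Subgroup.npow_mem_zpowers b i)).symm
      show π g ∈ _
      rw [hg]
      rcases D.setup.zpowers_cases hr with e | e
      · rw [show (⟨r, hR1 hrR⟩ : ↥Y) = 1 from Subtype.ext e, map_one]; exact one_mem _
      · rw [show (⟨r, hR1 hrR⟩ : ↥Y) = zY from Subtype.ext e]; exact Subgroup.mem_zpowers _
    · intro c hc x hx
      obtain ⟨g, rfl⟩ := QuotientGroup.mk'_surjective N c
      exact ⟨g * x * g⁻¹, conj_R (hC g hc) (hPR x hx), by rw [map_mul, map_mul, map_inv]⟩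
  have hwd : ∀ g g' : ↥Y, ∀ (h : (g : G) ∈ C.C1) (h' : (g' : G) ∈ C.C1), π g = π g' →
      C.χA ⟨g, h⟩ = C.χA ⟨g', h'⟩ := by
    intro g g' h h' e
    have hm := (hπ g g').1 e
    rw [← mem_powers_iff_mem_zpowers] at hm
    obtain ⟨i, hi⟩ := hm
    replace hi : b ^ i = (g : G)⁻¹ * g' := hi
    have : (⟨g', h'⟩ : ↥C.C1) = ⟨g, h⟩ * (⟨b, b_mem_C1⟩ : ↥C.C1) ^ i := Subtype.ext (by
      push_cast; rw [hi, mul_inv_cancel_left])
    rw [this, map_mul, map_pow,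
      show C.χA ⟨b, b_mem_C1⟩ = 1 from Subtype.ext χ_b, one_pow, mul_one]
  have hl : ∀ h : Subgroup.centralizer ({π zY} : Set (↥Y ⧸ N)),
      ∃ g : ↥Y, π g = h ∧ (g : G) ∈ C.C1 := fun h => by
    obtain ⟨g, hg⟩ := QuotientGroup.mk'_surjective N (h : ↥Y ⧸ N)
    exact ⟨g, hg, hC g (by
      rw [show π g = h from hg]; exact Subgroup.mem_centralizer_singleton_iff.1 h.2)⟩
  choose l hl hlC using hl
  have hquot : ∃ f : Subgroup.centralizer ({π zY} : Set (↥Y ⧸ N)) →* alternatingGroup (Fin 5),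
      Function.Surjective f ∧ ∀ h, f h = 1 ↔ (h : ↥Y ⧸ N) ∈ P.map π := by
    refine ⟨MonoidHom.mk' (fun h => C.χA ⟨l h, hlC h⟩) fun h h' => ?_, fun σ => ?_, fun h => ?_⟩
    · rw [← map_mul]
      exact hwd (l (h * h')) (l h * l h') _ (mul_mem (hlC h) (hlC h')) (by
        rw [map_mul, hl, hl, hl, Subgroup.coe_mul])
    · obtain ⟨g, rfl⟩ := C.χA_surjective σ
      have hm : π ⟨g, hC1 g.2⟩ ∈ Subgroup.centralizer ({π zY} : Set (↥Y ⧸ N)) := by
        rw [Subgroup.mem_centralizer_singleton_iff, ← map_mul, ← map_mul]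
        exact congrArg π (Subtype.ext (mem_C1.1 g.2).2.eq)
      exact ⟨⟨_, hm⟩, hwd _ ⟨g, hC1 g.2⟩ _ g.2 (hl ⟨_, hm⟩)⟩
    · show C.χA ⟨l h, hlC h⟩ = 1 ↔ _
      constructor
      · intro h1
        obtain ⟨i, hi⟩ := χ_ker (congrArg Subtype.val h1)
        refine ⟨⟨_, hR1 hi⟩, hi, ?_⟩
        rw [← hl h, hπ]
        show ((l h : G) * (b ^ i)⁻¹)⁻¹ * (l h : G) ∈ _
        rw [mul_inv_rev, inv_inv, mul_assoc, inv_mul_cancel, mul_one]
        exact Subgroup.npow_mem_zpowers b i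
      · rintro ⟨r, hr, hrh⟩
        rw [hwd (l h) r (hlC h) (R_le_C1 hr) ((hl h).trans hrh.symm)]
        exact Subtype.ext (χ_R hr)
  have hnwc : ∃ u ∈ P.map π, u ≠ π zY ∧ IsConj (π zY) u := by
    refine ⟨π sY, ⟨sY, s_mem (C := C), rfl⟩, fun h => C.F.pair.ne
      (heq sY zY (four_R (s_mem (C := C))) (four_R (z_mem (C := C))) h), isConj_iff.2 ⟨π kY, ?_⟩⟩
    rw [← map_inv, ← map_mul, ← map_mul]
    exact congrArg π (Subtype.ext C.k_z)
  obtain ⟨Pl⟩ := C.exists_planes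
  let T : Frame.Std C.F cType := ⟨Pl.ra, Pl.xb, Pl.hra.2.1, (mem_R.1 Pl.hxb.1).1, Pl.hxb.2.1,
    Pl.hra.2.2, Or.inl Pl.hxb.2.2⟩
  let uY : ↥Y := ⟨T.r * T.x, mul_mem (hRs Pl.hra.1) (hR1 Pl.hxb.1)⟩
  have hu2 : uY * uY = 1 := Subtype.ext T.sq
  have hu1 : π uY ≠ 1 := fun h => T.ne_one (C.pow_four_b ((hπ1 uY).1 h) (hsq4 T.sq))
  haveI : Fact (Nat.Prime 2) := ⟨Nat.prime_two⟩
  refine J2Uniq57.isoJ2 ⟨hsetup, hcard, hquot, hnwc⟩ ⟨π zY, π uY,
    orderOf_eq_prime (by rw [pow_two, ← map_mul, hz2, map_one]) hz1,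
    orderOf_eq_prime (by rw [pow_two, ← map_mul, hu2, map_one]) hu1, fun h => ?_⟩
  obtain ⟨c, hc⟩ := isConj_iff.1 h
  obtain ⟨g, rfl⟩ := QuotientGroup.mk'_surjective N c
  rw [← map_inv, ← map_mul, ← map_mul] at hc
  have e := heq (g * zY * g⁻¹) uY (by
    show ((g : G) * z * (g : G)⁻¹) ^ 4 = 1
    rw [conj_pow, hsq4 D.setup.z_mul_self, mul_one, mul_inv_cancel]) (hsq4 T.sq) hc
  exact T.not_isConj not_dvd_fixS_c (isConj_iff.2 ⟨g, e⟩)

variable (C) in
theorem card_Y (Y : Subgroup G) (hYb : Y ≤ Subgroup.centralizer ({b} : Set G)) (hC1 : C.C1 ≤ Y)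
    (hk : C.k ∈ Y) (hRs : C.Rs ≤ Y) : Nat.card ↥Y = Nat.card Cfsg.Spor.J2 * 5 := by
  have hbY : b ∈ Y := hC1 b_mem_C1
  haveI : ((Subgroup.zpowers b).subgroupOf Y).Normal := ⟨fun n hn g => by
    rw [Subgroup.mem_subgroupOf] at hn ⊢
    obtain ⟨i, hi⟩ := Subgroup.mem_zpowers_iff.1 hn
    refine Subgroup.mem_zpowers_iff.2 ⟨i, ?_⟩
    push_cast
    rw [← hi, ((show Commute (g : G) b from Subgroup.mem_centralizer_singleton_iff.1 (hYb g.2)).zpow_right i).eq,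
      mul_inv_cancel_right]⟩
  obtain ⟨e⟩ := C.isoJ2_quot Y hYb hC1 hk hRs
  rw [Subgroup.card_eq_card_quotient_mul_card_subgroup ((Subgroup.zpowers b).subgroupOf Y),
    Nat.card_congr e.toEquiv,
    Nat.card_congr (Subgroup.subgroupOfEquivOfLe (Subgroup.zpowers_le.2 hbY)).toEquiv,
    Nat.card_zpowers, C.five.ord]

theorem C1_le : C.C1 ≤ Subgroup.centralizer ({b} : Set G) := inf_le_left

theorem Rs_le : C.Rs ≤ Subgroup.centralizer ({b} : Set G) := inf_le_right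

theorem cases_cent {g : G} (hg : g ∈ Subgroup.centralizer ({b} : Set G)) :
    ∃ x ∈ C.DD ⊔ C.DDs, ∃ i : ℕ, g = x * b ^ i := by
  set X := C.DD ⊔ C.DDs with hX
  have hb : b ∈ Subgroup.centralizer ({b} : Set G) := Subgroup.mem_centralizer_singleton_iff.2 rfl
  have hY : X ⊔ Subgroup.zpowers b ≤ Subgroup.centralizer ({b} : Set G) :=
    sup_le X_le (Subgroup.zpowers_le.2 hb)
  have hC1 : C.C1 ≤ X ⊔ Subgroup.zpowers b := fun u hu => by
    obtain ⟨d, hd, i, rfl⟩ := C1_cases hu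
    exact mul_mem (Subgroup.mem_sup_left (Subgroup.mem_sup_left hd))
      (Subgroup.mem_sup_right (Subgroup.npow_mem_zpowers b i))
  have hkX : C.k ∈ X ⊔ Subgroup.zpowers b :=
    Subgroup.mem_sup_left ((sup_le R_le_X Rs_le_X : C.R ⊔ C.Rs ≤ X) C.k_mem)
  have hk : C.k ∈ Subgroup.centralizer ({b} : Set G) := Subgroup.mem_centralizer_singleton_iff.2 C.k_b.eq
  have h := Subgroup.eq_of_le_of_card_ge hY (by
    rw [C.card_Y _ le_rfl C1_le hk Rs_le, C.card_Y _ hY hC1 hkX (Rs_le_X.trans le_sup_left)])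
  rw [← h] at hg
  have hn : Subgroup.zpowers b ≤ Subgroup.normalizer (X : Set G) := by
    refine le_trans (Subgroup.zpowers_le.2 ?_) (Subgroup.centralizer_le_normalizer _)
    exact Subgroup.mem_centralizer_iff.2 fun x hx => (K_cent b_mem_K hx).eq
  rw [← SetLike.mem_coe, Subgroup.coe_mul_of_right_le_normalizer_left _ _ hn, Set.mem_mul] at hg
  obtain ⟨x, hx, y, hy, rfl⟩ := hg
  rw [SetLike.mem_coe, ← mem_powers_iff_mem_zpowers] at hy
  obtain ⟨i, rfl⟩ := hy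
  exact ⟨x, hx, i, rfl⟩

theorem X_isoJ2 : Cfsg.Spor.IsoJ2 ↥(C.DD ⊔ C.DDs) := by
  have hk : C.k ∈ Subgroup.centralizer ({b} : Set G) := Subgroup.mem_centralizer_singleton_iff.2 C.k_b.eq
  haveI : ((Subgroup.zpowers b).subgroupOf (Subgroup.centralizer ({b} : Set G))).Normal := ⟨fun n hn g => by
    rw [Subgroup.mem_subgroupOf] at hn ⊢
    obtain ⟨i, hi⟩ := Subgroup.mem_zpowers_iff.1 hn
    refine Subgroup.mem_zpowers_iff.2 ⟨i, ?_⟩
    push_cast
    rw [← hi, ((show Commute (g : G) b from Subgroup.mem_centralizer_singleton_iff.1 g.2).zpow_right i).eq,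
      mul_inv_cancel_right]⟩
  obtain ⟨e⟩ := C.isoJ2_quot _ le_rfl C1_le hk Rs_le
  let f : ↥(C.DD ⊔ C.DDs) →*
      ↥(Subgroup.centralizer ({b} : Set G)) ⧸
        (Subgroup.zpowers b).subgroupOf (Subgroup.centralizer ({b} : Set G)) :=
    (QuotientGroup.mk' _).comp (Subgroup.inclusion X_le)
  refine ⟨(MulEquiv.ofBijective f ⟨(injective_iff_map_eq_one f).2 fun x hx => ?_, fun q => ?_⟩).trans e⟩
  · have hb : (x : G) ∈ Subgroup.zpowers b :=
      (QuotientGroup.eq_one_iff (N := (Subgroup.zpowers b).subgroupOf _) (Subgroup.inclusion X_le x)).1 hx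
    exact Subtype.ext (X_inf x.2 (Subgroup.zpowers_le.2 b_mem_K hb))
  · obtain ⟨g, rfl⟩ := QuotientGroup.mk'_surjective _ q
    obtain ⟨x, hx, i, hg⟩ := cases_cent (C := C) g.2
    refine ⟨⟨x, hx⟩, QuotientGroup.eq.2 ?_⟩
    rw [Subgroup.mem_subgroupOf]
    show x⁻¹ * (g : G) ∈ _
    rw [hg, inv_mul_cancel_left]
    exact Subgroup.npow_mem_zpowers b i

theorem layer_eq : Cfsg.layer ↥(Subgroup.centralizer ({b} : Set G)) =
    (C.DD ⊔ C.DDs).subgroupOf (Subgroup.centralizer ({b} : Set G)) := by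
  set X := C.DD ⊔ C.DDs with hX
  set L := X.subgroupOf (Subgroup.centralizer ({b} : Set G)) with hL
  haveI : L.Normal := ⟨fun n hn g => by
    rw [hL, Subgroup.mem_subgroupOf] at hn ⊢
    push_cast
    obtain ⟨x, hx, i, hg⟩ := cases_cent (C := C) g.2
    have hc : Commute (b ^ i) (n : G) := ((K_cent b_mem_K hn).symm).pow_left i
    have e : (g : G) * n * (g : G)⁻¹ = x * n * x⁻¹ := by
      rw [hg, mul_inv_rev, show x * b ^ i * (n : G) * ((b ^ i)⁻¹ * x⁻¹) =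
        x * (b ^ i * (n : G) * (b ^ i)⁻¹) * x⁻¹ by group, hc.eq, mul_inv_cancel_right]
    rw [e]
    exact mul_mem (mul_mem hx hn) (inv_mem hx)⟩
  obtain ⟨e⟩ := X_isoJ2 (C := C)
  haveI := Cfsg.Agent.Steiner.Ico.simple_J2
  have hqJ : Cfsg.IsQuasisimple Cfsg.Spor.J2 :=
    Components.isQuasisimple_of_isSimpleGroup fun h => by
      obtain ⟨a, c, hac⟩ := Cfsg.Agent.Steiner.Ico.noncomm_J2
      exact hac (h.is_comm.comm a c)
  have hLc : Cfsg.IsComponent L := ⟨Subgroup.Normal.isSubnormal inferInstance,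
    Components.isQuasisimple_of_mulEquiv ((Subgroup.subgroupOfEquivOfLe X_le).trans e).symm hqJ⟩
  refine le_antisymm (sSup_le fun M hM => ?_) (le_sSup hLc)
  by_cases hML : M = L
  · exact hML.le
  exfalso
  have hcen := Components.component_le_centralizer hM hLc hML
  have hb : ∀ m ∈ M, (m : G) ∈ Subgroup.zpowers b := by
    intro m hm
    obtain ⟨x, hx, i, hmx⟩ := cases_cent (C := C) m.2
    have hmK : (m : G) ∈ C.K := by
      rw [← centralizer_X, Subgroup.mem_centralizer_iff]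
      intro y hy
      exact congrArg Subtype.val (Subgroup.mem_centralizer_iff.1 (hcen hm) ⟨y, X_le hy⟩ hy)
    have hxK : x ∈ C.K := by
      rw [show x = (m : G) * (b ^ i)⁻¹ by rw [hmx, mul_inv_cancel_right]]
      exact mul_mem hmK (inv_mem (pow_mem b_mem_K i))
    rw [hmx, X_inf hx hxK, one_mul]
    exact Subgroup.npow_mem_zpowers b i
  refine not_commutative_of_quasisimple hM.2 fun u v => Subtype.ext (Subtype.ext ?_)
  obtain ⟨i, hi⟩ := Subgroup.mem_zpowers_iff.1 (hb u u.2)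
  obtain ⟨j, hj⟩ := Subgroup.mem_zpowers_iff.1 (hb v v.2)
  push_cast
  rw [← hi, ← hj]
  exact ((Commute.refl b).zpow_zpow i j).eq

theorem conclusion (C : Cfg D b) :
    Cfsg.Spor.IsoJ2 ↥(Cfsg.layer ↥(Subgroup.centralizer ({b} : Set G))) ∧
      Nonempty (↥(Subgroup.centralizer (((Cfsg.layer ↥(Subgroup.centralizer ({b} : Set G))).map
        (Subgroup.subtype _)) : Set G)) ≃* alternatingGroup (Fin 5)) := by
  obtain ⟨e⟩ := X_isoJ2 (C := C)
  obtain ⟨e'⟩ := C.exists_K_equiv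
  rw [layer_eq (C := C)]
  refine ⟨⟨(Subgroup.subgroupOfEquivOfLe X_le).trans e⟩, ?_⟩
  rw [Subgroup.map_subgroupOf_eq_of_le X_le, centralizer_X]
  exact ⟨e'⟩

end Cfg

end Cfsg.Agent.Co1FiveCent36
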