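import Cfsg.Agent.LargeExt10.Co.Data

/-!
An element of order 5 of `Ω⁺(8, 2)` fixing a four-dimensional subspace of minus type: its class, its
centralizer and the pointwise stabiliser of that subspace.
-/

set_option autoImplicit false
set_option maxRecDepth 100000

namespace Cfsg.Agent.Co1FiveCent36

open QuadraticMap Cfsg.Agent.Reflections Cfsg.Agent.OrthCohom Cfsg.Agent.LargeExt10.Co

/-- The action of a word of reflections on codes. -/
def wAct (w : List ℕ) (u : ℕ) : ℕ := w.foldr rf u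

/-- The element of a word of reflections. -/
noncomputable def wEl : List ℕ → O8
  | [] => 1
  | c :: w => refl Q8 (vc c) * wEl w

/-- A word of admissible reflections. -/
def okW (w : List ℕ) : Bool := w.all (fun c => decide (c < 256) && qm c) && w.length % 2 == 0

theorem wAct_lt : ∀ (w : List ℕ), (∀ c ∈ w, c < 256) → ∀ {u : ℕ}, u < 256 → wAct w u < 256
  | [], _, _, hu => hu
  | c :: w, h, _, hu => rf_lt (h c List.mem_cons_self) (wAct_lt w (fun x hx => h x (List.mem_cons_of_mem _ hx)) hu)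

theorem act_wEl : ∀ (w : List ℕ), (∀ c ∈ w, c < 256 ∧ qm c = true) → ∀ {u : ℕ}, u < 256 →
    act (wEl w) (vc u) = vc (wAct w u)
  | [], _, u, _ => act_one _
  | c :: w, h, u, hu => by
    have h' : ∀ x ∈ w, x < 256 ∧ qm x = true := fun x hx => h x (List.mem_cons_of_mem _ hx)
    obtain ⟨hc, hq⟩ := h c List.mem_cons_self
    rw [wEl, act_mul, act_wEl w h' hu, act_rf hc hq (wAct_lt w (fun x hx => (h' x hx).1) hu)]
    rfl

theorem refl_parity {δ : O8 →* Multiplicative (ZMod 2)}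
    (hδ : ∀ v, Q8 v ≠ 0 → δ (refl Q8 v) = Multiplicative.ofAdd 1) : ∀ (w : List ℕ),
    (∀ c ∈ w, c < 256 ∧ qm c = true) → δ (wEl w) = Multiplicative.ofAdd (w.length : ZMod 2)
  | [], _ => by rw [wEl, map_one]; rfl
  | c :: w, h => by
    obtain ⟨hc, hq⟩ := h c List.mem_cons_self
    rw [wEl, map_mul, hδ _ (coded8.ne_zero hc hq),
      refl_parity hδ w (fun x hx => h x (List.mem_cons_of_mem _ hx)), ← ofAdd_add,
      List.length_cons, Nat.cast_add, Nat.cast_one, add_comm]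

theorem refl_not_mem {c : ℕ} (hc : c < 256) (hq : qm c = true) :
    refl Q8 (vc c) ∉ Cfsg.Omega (ZMod 2) ⇑Q8 := by
  obtain ⟨δ, hδ, hδv⟩ := UnitaryOrthogonal.Involution.exists_rkHom (Q := Q8) hQ8 exc8
  rw [UnitaryOrthogonal.Involution.mem_omega_iff_even_rk hQ8 exc8,
    ← UnitaryOrthogonal.Involution.ofAdd_cast_eq_one_iff, ← hδ, hδv _ (coded8.ne_zero hc hq)]
  decide

theorem okW_mem {w : List ℕ} (h : okW w = true) :
    (∀ c ∈ w, c < 256 ∧ qm c = true) ∧ wEl w ∈ Cfsg.Omega (ZMod 2) ⇑Q8 := by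
  simp only [okW, Bool.and_eq_true, List.all_eq_true, decide_eq_true_eq, beq_iff_eq] at h
  refine ⟨h.1, ?_⟩
  obtain ⟨δ, hδ, hδv⟩ := UnitaryOrthogonal.Involution.exists_rkHom (Q := Q8) hQ8 exc8
  rw [UnitaryOrthogonal.Involution.mem_omega_iff_even_rk hQ8 exc8,
    ← UnitaryOrthogonal.Involution.ofAdd_cast_eq_one_iff, ← hδ, refl_parity hδv w h.1,
    ofAdd_eq_one, ZMod.natCast_eq_zero_iff_even, Nat.even_iff]
  exact h.2

theorem act_okW {w : List ℕ} (h : okW w = true) {u : ℕ} (hu : u < 256) :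
    act (wEl w) (vc u) = vc (wAct w u) ∧ wAct w u < 256 :=
  ⟨act_wEl w (okW_mem h).1 hu, wAct_lt w (fun c hc => ((okW_mem h).1 c hc).1) hu⟩

/-- Two isometries with the same effect on codes are equal. -/
theorem ext_vc {g h : O8} (H : ∀ k < 256, act g (vc k) = act h (vc k)) : g = h :=
  isom_ext fun x => by obtain ⟨k, hk, rfl⟩ := vc_surj x; exact H k hk

theorem act_pow_vc {g : O8} {f : ℕ → ℕ} (hf : ∀ k < 256, act g (vc k) = vc (f k) ∧ f k < 256) :
    ∀ (i : ℕ), ∀ k < 256, act (g ^ i) (vc k) = vc (f^[i] k) ∧ f^[i] k < 256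
  | 0, k, hk => ⟨by rw [pow_zero, act_one]; rfl, hk⟩
  | i + 1, k, hk => by
    obtain ⟨h1, h2⟩ := act_pow_vc hf i k hk
    rw [pow_succ', act_mul, h1, Function.iterate_succ_apply']
    exact hf _ h2

/-- The word of the element of order 5. -/
def w0 : List ℕ := [136, 226, 38, 166]

/-- The word of the element of order 5 on the fixed subspace. -/
def w1 : List ℕ := [101, 17, 86, 50]

/-- The word of an element exchanging the two subspaces. -/
def wS : List ℕ := [184, 212, 145, 188, 156, 77]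

/-- The words inducing a double transposition, a 3-cycle and a 5-cycle on the fixed subspace. -/
def gensP : List (List ℕ) := [[116, 71], [86, 50], [34, 101, 50, 116]]

/-- The same on the moved subspace. -/
def gensM : List (List ℕ) := [[98, 136], [106, 76], [226, 68, 196, 46]]

/-- The singular vectors of the fixed subspace. -/
def ptsP : List ℕ := [1, 16, 51, 87, 117]

/-- The singular vectors of the moved subspace. -/
def ptsM : List ℕ := [8, 128, 174, 204, 234]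

/-- The element of order 5. -/
noncomputable def β : O8 := wEl w0

theorem words_ok : okW w0 = true ∧ okW w1 = true ∧ okW wS = true ∧
    (∀ w ∈ gensP, okW w = true) ∧ (∀ w ∈ gensM, okW w = true) := by decide +kernel

theorem β_mem : β ∈ Cfsg.Omega (ZMod 2) ⇑Q8 := (okW_mem words_ok.1).2

theorem act_β {k : ℕ} (hk : k < 256) : act β (vc k) = vc (wAct w0 k) ∧ wAct w0 k < 256 :=
  act_okW words_ok.1 hk

theorem order_facts : ∀ k : Fin 256, (wAct w0)^[5] k.val = k.val ∧ (wAct w1)^[5] k.val = k.val ∧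
    wAct w0 (wAct w1 k.val) = wAct w1 (wAct w0 k.val) ∧
    wAct wS (wAct w1 k.val) = wAct w0 (wAct wS k.val) := by
  decide +kernel

theorem inj_facts : ∀ i j : Fin 5,
    (∀ k : Fin 256, (wAct w0)^[i.val] ((wAct w1)^[j.val] k.val) = k.val) → i = 0 ∧ j = 0 := by
  decide +kernel

theorem fix_facts : ∀ i j : Fin 5,
    (∃ k : Fin 256, k.val ≠ 0 ∧ (wAct w0)^[i.val] ((wAct w1)^[j.val] k.val) = k.val) →
      i = 0 ∨ j = 0 := by
  decide +kernel

/-! ### The class of `β` -/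

/-- The element of order 5 on the fixed subspace. -/
noncomputable def β₁ : O8 := wEl w1

theorem act_β₁ {k : ℕ} (hk : k < 256) : act β₁ (vc k) = vc (wAct w1 k) ∧ wAct w1 k < 256 :=
  act_okW words_ok.2.1 hk

theorem act_ββ₁ (i j : ℕ) {k : ℕ} (hk : k < 256) :
    act (β ^ i * β₁ ^ j) (vc k) = vc ((wAct w0)^[i] ((wAct w1)^[j] k)) := by
  obtain ⟨h1, h2⟩ := act_pow_vc (fun k hk => act_β₁ hk) j k hk
  rw [act_mul, h1, (act_pow_vc (fun k hk => act_β hk) i _ h2).1]

theorem β_comm : β * β₁ = β₁ * β := ext_vc fun k hk => by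
  rw [act_mul, act_mul, (act_β₁ hk).1, (act_β hk).1, (act_β (act_β₁ hk).2).1,
    (act_β₁ (act_β hk).2).1, (order_facts ⟨k, hk⟩).2.2.1]

theorem β_pow : β ^ 5 = 1 ∧ β₁ ^ 5 = 1 := by
  constructor <;> refine ext_vc fun k hk => ?_
  · rw [(act_pow_vc (fun k hk => act_β hk) 5 k hk).1, (order_facts ⟨k, hk⟩).1, act_one]
  · rw [(act_pow_vc (fun k hk => act_β₁ hk) 5 k hk).1, (order_facts ⟨k, hk⟩).2.1, act_one]

/-- The elementary abelian group of order 25. -/
noncomputable def E25 : Subgroup (Cfsg.Omega (ZMod 2) ⇑Q8) :=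
  Subgroup.zpowers ⟨β, β_mem⟩ ⊔ Subgroup.zpowers ⟨β₁, (okW_mem words_ok.2.1).2⟩

theorem mem_E25 {g : Cfsg.Omega (ZMod 2) ⇑Q8} :
    g ∈ E25 ↔ ∃ i j : Fin 5, (g : O8) = β ^ i.val * β₁ ^ j.val := by
  set a : Cfsg.Omega (ZMod 2) ⇑Q8 := ⟨β, β_mem⟩ with ha
  set c : Cfsg.Omega (ZMod 2) ⇑Q8 := ⟨β₁, (okW_mem words_ok.2.1).2⟩ with hc
  have hac : Commute a c := Subtype.ext β_comm
  have hn : Subgroup.zpowers c ≤ Subgroup.normalizer (Subgroup.zpowers a : Set _) := by
    refine le_trans (Subgroup.zpowers_le.2 ?_) (Subgroup.centralizer_le_normalizer _)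
    refine Subgroup.mem_centralizer_iff.2 fun y hy => ?_
    obtain ⟨n, rfl⟩ := Subgroup.mem_zpowers_iff.1 hy
    exact (hac.zpow_left n).eq
  constructor
  · intro hg
    rw [← SetLike.mem_coe, E25, Subgroup.coe_mul_of_right_le_normalizer_left _ _ hn, Set.mem_mul] at hg
    obtain ⟨x, hx, y, hy, rfl⟩ := hg
    have h5 : ∀ {u : Cfsg.Omega (ZMod 2) ⇑Q8}, (u : O8) ^ 5 = 1 → ∀ {x}, x ∈ Subgroup.zpowers u →
        ∃ i : Fin 5, (x : O8) = (u : O8) ^ i.val := by
      intro u hu x hx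
      rw [← mem_powers_iff_mem_zpowers] at hx
      obtain ⟨n, rfl⟩ := hx
      refine ⟨⟨n % 5, Nat.mod_lt _ (by norm_num)⟩, ?_⟩
      show ((u ^ n : Cfsg.Omega (ZMod 2) ⇑Q8) : O8) = (u : O8) ^ (n % 5)
      rw [SubgroupClass.coe_pow, ← pow_eq_pow_mod n hu]
    obtain ⟨i, hi⟩ := h5 (u := a) β_pow.1 hx
    obtain ⟨j, hj⟩ := h5 (u := c) β_pow.2 hy
    exact ⟨i, j, (Subgroup.coe_mul _ x y).trans (congrArg₂ (· * ·) hi hj)⟩
  · rintro ⟨i, j, h⟩
    have : g = a ^ i.val * c ^ j.val := Subtype.ext h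
    rw [this]
    exact mul_mem (Subgroup.mem_sup_left (Subgroup.npow_mem_zpowers a _))
      (Subgroup.mem_sup_right (Subgroup.npow_mem_zpowers c _))

theorem card_E25 : Nat.card E25 = 25 := by
  let f : Fin 5 × Fin 5 → E25 := fun p =>
    ⟨⟨β ^ p.1.val * β₁ ^ p.2.val, mul_mem (pow_mem β_mem _) (pow_mem (okW_mem words_ok.2.1).2 _)⟩,
      mem_E25.2 ⟨p.1, p.2, rfl⟩⟩
  have hinj : Function.Injective f := by
    rintro ⟨i, j⟩ ⟨i', j'⟩ h
    have h' : β ^ i.val * β₁ ^ j.val = β ^ i'.val * β₁ ^ j'.val :=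
      congrArg (fun x : E25 => ((x : Cfsg.Omega (ZMod 2) ⇑Q8) : O8)) h
    have key : β ^ (i - i').val * β₁ ^ (j - j').val = 1 := by
      have hp : ∀ {u : O8}, u ^ 5 = 1 → ∀ a b : Fin 5, u ^ a.val = u ^ (a - b).val * u ^ b.val := by
        intro u hu a b
        rw [← pow_add, pow_eq_pow_mod _ hu]
        conv_rhs => rw [pow_eq_pow_mod _ hu]
        refine congrArg (fun n : ℕ => u ^ n) ?_
        rw [← Fin.val_add, sub_add_cancel, Nat.mod_eq_of_lt a.isLt]
      rw [hp β_pow.1 i i', hp β_pow.2 j j',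
        ((show Commute β β₁ from β_comm).pow_pow i'.val (j - j').val).mul_mul_mul_comm] at h'
      exact mul_eq_right.1 h'
    obtain ⟨hi, hj⟩ := inj_facts _ _ fun k => vc_inj
      (act_pow_vc (fun k hk => act_β hk) _ _ (act_pow_vc (fun k hk => act_β₁ hk) _ _ k.isLt).2).2
      k.isLt (by rw [← act_ββ₁ _ _ k.isLt, key, act_one])
    exact Prod.ext (sub_eq_zero.1 hi) (sub_eq_zero.1 hj)
  have hsurj : Function.Surjective f := by
    rintro ⟨g, hg⟩
    obtain ⟨i, j, h⟩ := mem_E25.1 hg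
    exact ⟨(i, j), Subtype.ext (Subtype.ext h.symm)⟩
  rw [← Nat.card_congr (Equiv.ofBijective f ⟨hinj, hsurj⟩)]
  simp

/-- The exchanging element. -/
noncomputable def swp : O8 := wEl wS

theorem swp_conj : swp * β₁ * swp⁻¹ = β := by
  rw [mul_inv_eq_iff_eq_mul]
  refine ext_vc fun k hk => ?_
  rw [act_mul, act_mul, (act_β₁ hk).1, swp, (act_okW words_ok.2.2.1 (act_β₁ hk).2).1,
    (act_okW words_ok.2.2.1 hk).1, (act_β (act_okW words_ok.2.2.1 hk).2).1,
    (order_facts ⟨k, hk⟩).2.2.2]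

/-- Every element of order 5 fixing a non-zero vector is conjugate to a power of `β`. -/
theorem exists_conj_power {g : O8} (hg : g ∈ Cfsg.Omega (ZMod 2) ⇑Q8) (h5 : orderOf g = 5)
    {v : V8} (hv : v ≠ 0) (hfix : act g v = v) :
    ∃ γ ∈ Cfsg.Omega (ZMod 2) ⇑Q8, ∃ k : ℕ, γ * g * γ⁻¹ = β ^ k := by
  haveI : Fact (Nat.Prime 5) := ⟨by norm_num⟩
  let u : Cfsg.Omega (ZMod 2) ⇑Q8 := ⟨g, hg⟩
  let P : Sylow 5 (Cfsg.Omega (ZMod 2) ⇑Q8) := Sylow.ofCard E25 (by
    rw [card_E25, card_omega8.1]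
    decide +kernel)
  have hu : IsPGroup 5 (Subgroup.zpowers u) := by
    refine IsPGroup.of_card (n := 1) ?_
    rw [Nat.card_zpowers, ← Subgroup.orderOf_coe, h5, pow_one]
  obtain ⟨P', hP'⟩ := hu.exists_le_sylow
  obtain ⟨c, hc⟩ := MulAction.exists_smul_eq (Cfsg.Omega (ZMod 2) ⇑Q8) P' P
  have hmem : c * u * c⁻¹ ∈ E25 := by
    have : c * u * c⁻¹ ∈ ((c • P' : Sylow 5 _) : Subgroup _) := by
      rw [Sylow.coe_subgroup_smul]
      exact Subgroup.smul_mem_pointwise_smul _ (MulAut.conj c) _ (hP' (Subgroup.mem_zpowers u))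
    rw [hc] at this
    exact this
  obtain ⟨i, j, hij⟩ := mem_E25.1 hmem
  replace hij : (c : O8) * g * (c : O8)⁻¹ = β ^ i.val * β₁ ^ j.val := hij
  obtain ⟨k, hk, hkv⟩ := vc_surj (act (c : O8) v)
  have hk0 : k ≠ 0 := fun e => hv (act_injective (c : O8) (by rw [← hkv, e, vc_zero, act_zero]))
  have hk' : (wAct w0)^[i.val] ((wAct w1)^[j.val] k) = k := by
    refine vc_inj (act_pow_vc (fun k hk => act_β hk) _ _ (act_pow_vc (fun k hk => act_β₁ hk) _ _ hk).2).2
      hk ?_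
    rw [← act_ββ₁ _ _ hk, ← hij, hkv, act_mul, act_mul, act_inv_act, hfix]
  rcases fix_facts i j ⟨⟨k, hk⟩, hk0, hk'⟩ with h | h
  · rw [h, Fin.val_zero, pow_zero, one_mul] at hij
    refine ⟨swp * c, mul_mem (okW_mem words_ok.2.2.1).2 c.2, j.val, ?_⟩
    rw [show swp * c * g * (swp * (c : O8))⁻¹ = swp * ((c : O8) * g * (c : O8)⁻¹) * swp⁻¹ by group, hij,
      ← conj_pow, swp_conj]
  · rw [h, Fin.val_zero, pow_zero, mul_one] at hij
    exact ⟨c, c.2, i.val, hij⟩

end Cfsg.Agent.Co1FiveCent36
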