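import Cfsg.Agent.Co1FiveCent36.Model

/-!
The permutations of five singular vectors induced by the centralizer of `β` and by the pointwise
stabiliser of its fixed subspace.
-/

set_option autoImplicit false
set_option maxRecDepth 100000

namespace Cfsg.Agent.Co1FiveCent36

open QuadraticMap Cfsg.Agent.Reflections Cfsg.Agent.LargeExt10.Co

/-- The singular vectors of the fixed subspace. -/
abbrev pP (k : Fin 5) : V8 := vc (ptsP.getD k.val 0)

/-- The singular vectors of the moved subspace. -/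
abbrev pM (k : Fin 5) : V8 := vc (ptsM.getD k.val 0)

/-- A combination of codes. -/
def cmb : List ℕ → ℕ → ℕ
  | [], _ => 0
  | c :: L, m => (if m.testBit 0 then c else 0) ^^^ cmb L (m / 2)

theorem pts_facts :
    (∀ k : Fin 5, ptsP.getD k.val 0 < 256 ∧ ptsM.getD k.val 0 < 256 ∧
      qm (ptsP.getD k.val 0) = false ∧ qm (ptsM.getD k.val 0) = false ∧
      wAct w0 (ptsP.getD k.val 0) = ptsP.getD k.val 0 ∧ ptsP.getD k.val 0 ≠ 0 ∧
      ptsM.getD k.val 0 ≠ 0) ∧
    (∀ k l : Fin 5, (ptsP.getD k.val 0 = ptsP.getD l.val 0 → k = l) ∧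
      (ptsM.getD k.val 0 = ptsM.getD l.val 0 → k = l) ∧
      orth (ptsP.getD k.val 0) (ptsM.getD l.val 0) = true) ∧
    (∀ k : Fin 256, k.val ≠ 0 → qm k.val = false → wAct w0 k.val = k.val →
      ∃ j : Fin 5, k.val = ptsP.getD j.val 0) ∧
    (∀ k : Fin 256, k.val ≠ 0 → qm k.val = false →
      (∀ j : Fin 5, orth (ptsP.getD j.val 0) k.val = true) → ∃ j : Fin 5, k.val = ptsM.getD j.val 0) ∧
    (∀ k : Fin 256, ∃ m : Fin 1024, cmb (ptsP ++ ptsM) m.val = k.val) := by
  decide +kernel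

theorem pP_inj : Function.Injective pP := fun k l h =>
  (pts_facts.2.1 k l).1 (vc_inj (pts_facts.1 k).1 (pts_facts.1 l).1 h)

theorem pM_inj : Function.Injective pM := fun k l h =>
  (pts_facts.2.1 k l).2.1 (vc_inj (pts_facts.1 k).2.1 (pts_facts.1 l).2.1 h)

theorem act_cmb (g h : O8) : ∀ (L : List ℕ) (m : ℕ),
    (∀ c ∈ L, act g (vc c) = act h (vc c)) → act g (vc (cmb L m)) = act h (vc (cmb L m))
  | [], _, _ => by rw [cmb, vc_zero, act_zero, act_zero]
  | c :: L, m, hL => by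
    rw [cmb, vc_xor, act_add, act_add, act_cmb g h L _ fun x hx => hL x (List.mem_cons_of_mem _ hx)]
    congr 1
    split
    · exact hL c List.mem_cons_self
    · rw [vc_zero, act_zero, act_zero]

/-- An isometry is determined by its effect on the ten points. -/
theorem ext_pts {g h : O8} (hP : ∀ k, act g (pP k) = act h (pP k))
    (hM : ∀ k, act g (pM k) = act h (pM k)) : g = h := by
  refine ext_vc fun k hk => ?_
  obtain ⟨m, hm⟩ := pts_facts.2.2.2.2 ⟨k, hk⟩
  replace hm : cmb (ptsP ++ ptsM) m.val = k := hm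
  rw [← hm]
  refine act_cmb g h _ _ fun c hc => ?_
  have key : ∀ c ∈ ptsP ++ ptsM, (∃ j : Fin 5, c = ptsP.getD j.val 0) ∨ ∃ j : Fin 5, c = ptsM.getD j.val 0 := by
    decide +kernel
  rcases key c hc with ⟨j, rfl⟩ | ⟨j, rfl⟩
  exacts [hP j, hM j]

/-- The centralizer of `β`. -/
noncomputable def CB : Subgroup O8 := Subgroup.centralizer ({β} : Set O8)

theorem mem_CB {g : O8} : g ∈ CB ↔ g * β = β * g := Subgroup.mem_centralizer_singleton_iff

/-- The pointwise stabiliser of the fixed subspace. -/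
noncomputable def FixP : Subgroup O8 where
  carrier := {g | ∀ k, act g (pP k) = pP k}
  one_mem' := fun k => act_one _
  mul_mem' := fun {g h} hg hh k => by rw [act_mul, hh k, hg k]
  inv_mem' := fun {g} hg k => by conv_lhs => rw [← hg k, act_inv_act]

theorem β_fix (k : Fin 5) : act β (pP k) = pP k := by
  rw [(act_β (pts_facts.1 k).1).1, (pts_facts.1 k).2.2.2.2.1]

theorem β_mem_CB : β ∈ CB := mem_CB.2 rfl

theorem β_mem_FixP : β ∈ FixP := β_fix

/-- A fixed singular vector of `β` is one of the five. -/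
theorem exists_pP {v : V8} (h0 : v ≠ 0) (hq : Q8 v = 0) (hf : act β v = v) : ∃ j, v = pP j := by
  obtain ⟨k, hk, rfl⟩ := vc_surj v
  obtain ⟨j, hj⟩ := pts_facts.2.2.1 ⟨k, hk⟩ (fun e => h0 (by rw [show k = 0 from e, vc_zero]))
    (qm_false hk hq) (vc_inj (act_β hk).2 hk ((act_β hk).1.symm.trans hf))
  exact ⟨j, congrArg vc hj⟩

/-- A singular vector orthogonal to the fixed subspace is one of the other five. -/
theorem exists_pM {v : V8} (h0 : v ≠ 0) (hq : Q8 v = 0) (hf : ∀ j, B8 (pP j) v = 0) :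
    ∃ j, v = pM j := by
  obtain ⟨k, hk, rfl⟩ := vc_surj v
  obtain ⟨j, hj⟩ := pts_facts.2.2.2.1 ⟨k, hk⟩ (fun e => h0 (by rw [show k = 0 from e, vc_zero]))
    (qm_false hk hq) (fun j => orth_true (pts_facts.1 j).1 hk (hf j))
  exact ⟨j, congrArg vc hj⟩

theorem Q_pP (k : Fin 5) : Q8 (pP k) = 0 := Q_of (e := false) (pts_facts.1 k).1 (pts_facts.1 k).2.2.1

theorem Q_pM (k : Fin 5) : Q8 (pM k) = 0 := Q_of (e := false) (pts_facts.1 k).2.1 (pts_facts.1 k).2.2.2.1

theorem pP_ne (k : Fin 5) : pP k ≠ 0 := fun h =>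
  (pts_facts.1 k).2.2.2.2.2.1 (vc_inj (pts_facts.1 k).1 (by norm_num) (h.trans vc_zero.symm))

theorem pM_ne (k : Fin 5) : pM k ≠ 0 := fun h =>
  (pts_facts.1 k).2.2.2.2.2.2 (vc_inj (pts_facts.1 k).2.1 (by norm_num) (h.trans vc_zero.symm))

theorem B_PM (k l : Fin 5) : B8 (pP k) (pM l) = 0 :=
  B_of_orth (pts_facts.1 k).1 (pts_facts.1 l).2.1 (pts_facts.2.1 k l).2.2

/-- The centralizer of `β` permutes the five fixed vectors. -/
theorem exists_CB {g : O8} (hg : g ∈ CB) (k : Fin 5) : ∃ j, act g (pP k) = pP j := by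
  refine exists_pP (fun h => pP_ne k (act_injective g (h.trans (act_zero g).symm))) ?_ ?_
  · rw [act_Q]; exact Q_pP k
  · rw [← act_mul, ← mem_CB.1 hg, act_mul, β_fix]

/-- The stabiliser permutes the five moved vectors. -/
theorem exists_FixP {g : O8} (hg : g ∈ FixP) (k : Fin 5) : ∃ j, act g (pM k) = pM j := by
  refine exists_pM (fun h => pM_ne k (act_injective g (h.trans (act_zero g).symm))) ?_ fun j => ?_
  · rw [act_Q]; exact Q_pM k
  · conv_lhs => arg 1; rw [← hg j]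
    rw [B8, act_polar]
    exact B_PM j k

/-- The permutation of a family of vectors induced by an element. -/
noncomputable def permOf (p : Fin 5 → V8) (hp : Function.Injective p) (g : O8)
    (h : ∀ k, ∃ j, act g (p k) = p j) : Equiv.Perm (Fin 5) :=
  Equiv.ofBijective (fun k => (h k).choose) (Finite.injective_iff_bijective.1
    fun k l e => hp (act_injective g ((h k).choose_spec.trans
      ((congrArg p e).trans (h l).choose_spec.symm))))

theorem permOf_spec (p : Fin 5 → V8) (hp : Function.Injective p) (g : O8)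
    (h : ∀ k, ∃ j, act g (p k) = p j) (k : Fin 5) : act g (p k) = p (permOf p hp g h k) :=
  (h k).choose_spec

/-- The permutation of a family of vectors induced by a subgroup. -/
noncomputable def permHomOf (H : Subgroup O8) (p : Fin 5 → V8) (hp : Function.Injective p)
    (h : ∀ g ∈ H, ∀ k, ∃ j, act g (p k) = p j) : ↥H →* Equiv.Perm (Fin 5) where
  toFun g := permOf p hp g.1 (h g.1 g.2)
  map_one' := Equiv.ext fun k => hp (by
    rw [← permOf_spec p hp, Subgroup.coe_one, act_one, Equiv.Perm.one_apply])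
  map_mul' g g' := Equiv.ext fun k => hp (by
    rw [← permOf_spec p hp, Equiv.Perm.mul_apply, ← permOf_spec p hp, ← permOf_spec p hp, Subgroup.coe_mul,
      act_mul])

theorem permHomOf_spec (H : Subgroup O8) (p : Fin 5 → V8) (hp : Function.Injective p)
    (h : ∀ g ∈ H, ∀ k, ∃ j, act g (p k) = p j) (g : ↥H) (k : Fin 5) :
    act g.1 (p k) = p (permHomOf H p hp h g k) := permOf_spec p hp g.1 (h g.1 g.2) k

/-- The action of the centralizer. -/
noncomputable def θP : ↥CB →* Equiv.Perm (Fin 5) := permHomOf CB pP pP_inj fun _ hg => exists_CB hg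

/-- The action of the stabiliser. -/
noncomputable def θM : ↥FixP →* Equiv.Perm (Fin 5) :=
  permHomOf FixP pM pM_inj fun _ hg => exists_FixP hg

theorem θP_spec (g : ↥CB) (k : Fin 5) : act g.1 (pP k) = pP (θP g k) := permHomOf_spec _ _ _ _ g k

theorem θM_spec (g : ↥FixP) (k : Fin 5) : act g.1 (pM k) = pM (θM g k) := permHomOf_spec _ _ _ _ g k

theorem θM_ker {g : ↥FixP} (h : θM g = 1) : g = 1 := by
  refine Subtype.ext (ext_pts (fun k => ?_) fun k => ?_)
  · rw [OneMemClass.coe_one, act_one]; exact g.2 k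
  · rw [OneMemClass.coe_one, act_one, θM_spec, h]; rfl

theorem orbit_facts : ∀ k : Fin 5, ∃ i : Fin 5, (wAct w0)^[i.val] (ptsM.getD 0 0) = ptsM.getD k.val 0 := by
  decide +kernel

theorem θP_ker {g : ↥CB} (h : θP g = 1) : ∃ i : ℕ, g.1 = β ^ i := by
  have hfix : g.1 ∈ FixP := fun k => by rw [θP_spec, h]; rfl
  obtain ⟨j, hj⟩ := exists_FixP hfix 0
  obtain ⟨i, hi⟩ := orbit_facts j
  have h0 := (pts_facts.1 0).2.1
  have hb : ∀ m : ℕ, act (β ^ m) (pM 0) = vc ((wAct w0)^[m] (ptsM.getD 0 0)) := fun m =>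
    (act_pow_vc (fun k hk => act_β hk) m _ h0).1
  refine ⟨i.val, ext_pts (fun k => ?_) fun k => ?_⟩
  · rw [hfix k]
    exact (pow_mem β_mem_FixP i.val k).symm
  · obtain ⟨m, hm⟩ := orbit_facts k
    have e : pM k = act (β ^ m.val) (pM 0) := by rw [hb, hm]
    have hc : g.1 * β ^ m.val = β ^ m.val * g.1 :=
      ((show Commute g.1 β from mem_CB.1 g.2).pow_right _).eq
    rw [e, ← act_mul, hc, act_mul, hj, show pM j = act (β ^ i.val) (pM 0) by rw [hb, hi], ← act_mul,
      ← act_mul, ← pow_add, ← pow_add, add_comm]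

/-! ### The images -/

theorem alternating_eq {S : Subgroup (Equiv.Perm (Fin 5))} (hle : S ≤ alternatingGroup (Fin 5))
    {x y w : Equiv.Perm (Fin 5)} (hx : x ∈ S) (hy : y ∈ S) (hw : w ∈ S)
    (h2 : orderOf x = 2) (h3 : orderOf y = 3) (h5 : orderOf w = 5) :
    S = alternatingGroup (Fin 5) := by
  haveI := alternatingGroup.isSimpleGroup (α := Fin 5) (by simp)
  have hA : Nat.card ↥(alternatingGroup (Fin 5)) = 60 := by
    rw [nat_card_alternatingGroup, Nat.card_eq_fintype_card]; decide +kernel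
  have hd : ∀ {u : Equiv.Perm (Fin 5)}, u ∈ S → orderOf u ∣ Nat.card S := fun hu => by
    simpa [Subgroup.orderOf_coe] using orderOf_dvd_natCard (⟨_, hu⟩ : S)
  obtain ⟨m, hm⟩ : 30 ∣ Nat.card S := by
    have a := h2 ▸ hd hx
    have b := h3 ▸ hd hy
    have c := h5 ▸ hd hw
    omega
  set T := S.subgroupOf (alternatingGroup (Fin 5)) with hT
  have hTc : Nat.card T = Nat.card S := Nat.card_congr (Subgroup.subgroupOfEquivOfLe hle).toEquiv
  have hidx := T.card_mul_index
  rw [hA, hTc, hm, mul_assoc] at hidx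
  have htop : T = ⊤ := by
    rcases (Nat.dvd_prime Nat.prime_two).1 (show T.index ∣ 2 from ⟨m, by rw [mul_comm]; omega⟩) with h | h
    · exact Subgroup.index_eq_one.1 h
    · rcases IsSimpleGroup.eq_bot_or_eq_top_of_normal T (Subgroup.normal_of_index_eq_two h) with e | e
      · rw [e, Subgroup.card_bot] at hTc; omega
      · exact e
  exact le_antisymm hle fun u hu => (htop ▸ Subgroup.mem_top (⟨u, hu⟩ : alternatingGroup (Fin 5)) :)

/-- Three even permutations of orders 2, 3 and 5. -/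
theorem perm_facts : ∀ f : Equiv.Perm (Fin 5),
    (((List.finRange 5).map fun k => (f k).val) = [4, 3, 2, 1, 0] ∨
      ((List.finRange 5).map fun k => (f k).val) = [1, 0, 3, 2, 4] →
      f ^ 2 = 1 ∧ f ≠ 1 ∧ Equiv.Perm.sign f = 1) ∧
    (((List.finRange 5).map fun k => (f k).val) = [2, 1, 3, 0, 4] ∨
      ((List.finRange 5).map fun k => (f k).val) = [0, 3, 2, 4, 1] →
      f ^ 3 = 1 ∧ f ≠ 1 ∧ Equiv.Perm.sign f = 1) ∧
    (((List.finRange 5).map fun k => (f k).val) = [1, 3, 0, 4, 2] ∨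
      ((List.finRange 5).map fun k => (f k).val) = [3, 0, 1, 4, 2] →
      f ^ 5 = 1 ∧ f ≠ 1 ∧ Equiv.Perm.sign f = 1) := by
  decide +kernel

/-- The core argument: the even part of a group of isometries induces exactly the alternating group. -/
theorem range_eq (H : Subgroup O8) (f : ↥H →* Equiv.Perm (Fin 5))
    (hker : ∀ g : ↥H, f g = 1 → g.1 ∈ Cfsg.Omega (ZMod 2) ⇑Q8) (x : Fin 3 → ↥H) (r : ↥H)
    (hx : ∀ i, (x i).1 ∈ Cfsg.Omega (ZMod 2) ⇑Q8) (hr : r.1 ∉ Cfsg.Omega (ZMod 2) ⇑Q8)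
    (hrs : Equiv.Perm.sign (f r) = -1)
    (hl : ((List.finRange 5).map fun k => (f (x 0) k).val) ∈ [[4, 3, 2, 1, 0], [1, 0, 3, 2, 4]] ∧
      ((List.finRange 5).map fun k => (f (x 1) k).val) ∈ [[2, 1, 3, 0, 4], [0, 3, 2, 4, 1]] ∧
      ((List.finRange 5).map fun k => (f (x 2) k).val) ∈ [[1, 3, 0, 4, 2], [3, 0, 1, 4, 2]]) :
    ((Cfsg.Omega (ZMod 2) ⇑Q8).subgroupOf H).map f = alternatingGroup (Fin 5) := by
  obtain ⟨l0, l1, l2⟩ := hl
  simp only [List.mem_cons, List.not_mem_nil, or_false] at l0 l1 l2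
  obtain ⟨p0, n0, s0⟩ := (perm_facts _).1 l0
  obtain ⟨p1, n1, s1⟩ := (perm_facts _).2.1 l1
  obtain ⟨p2, n2, s2⟩ := (perm_facts _).2.2 l2
  set K := (Cfsg.Omega (ZMod 2) ⇑Q8).subgroupOf H
  set T := Subgroup.closure (Set.range x)
  have hTK : T ≤ K := (Subgroup.closure_le _).2 (by rintro _ ⟨i, rfl⟩; exact hx i)
  have hTA : T.map f = alternatingGroup (Fin 5) := by
    refine alternating_eq ?_ (Subgroup.mem_map_of_mem f (Subgroup.subset_closure ⟨0, rfl⟩))
      (Subgroup.mem_map_of_mem f (Subgroup.subset_closure ⟨1, rfl⟩))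
      (Subgroup.mem_map_of_mem f (Subgroup.subset_closure ⟨2, rfl⟩)) ?_ ?_ ?_
    · rw [Subgroup.map_le_iff_le_comap, Subgroup.closure_le]
      rintro _ ⟨i, rfl⟩
      rw [SetLike.mem_coe, Subgroup.mem_comap, Equiv.Perm.mem_alternatingGroup]
      fin_cases i <;> assumption
    · haveI : Fact (Nat.Prime 2) := ⟨Nat.prime_two⟩
      exact orderOf_eq_prime p0 n0
    · haveI : Fact (Nat.Prime 3) := ⟨Nat.prime_three⟩
      exact orderOf_eq_prime p1 n1
    · haveI : Fact (Nat.Prime 5) := ⟨Nat.prime_five⟩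
      exact orderOf_eq_prime p2 n2
  refine le_antisymm ?_ (hTA ▸ Subgroup.map_mono hTK)
  rintro _ ⟨g, hg, rfl⟩
  rw [Equiv.Perm.mem_alternatingGroup]
  refine (Int.units_eq_one_or _).resolve_right fun hs => ?_
  have hgr : f (g * r) ∈ T.map f := by
    rw [hTA, Equiv.Perm.mem_alternatingGroup, map_mul, map_mul, hs, hrs]; rfl
  obtain ⟨e, he, hef⟩ := hgr
  have h1 := hker (e⁻¹ * (g * r)) (by rw [map_mul, map_inv, hef, inv_mul_cancel])
  refine hr ?_
  have h2 : r.1 = g.1⁻¹ * e.1 * (e⁻¹ * (g * r) : ↥H).1 := by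
    simp only [Subgroup.coe_mul, Subgroup.coe_inv]; group
  rw [h2]
  exact mul_mem (mul_mem (inv_mem hg) (hTK he)) h1

theorem gens_facts :
    (∀ w ∈ gensP, ∀ k : Fin 256, wAct w (wAct w0 k.val) = wAct w0 (wAct w k.val)) ∧
    (∀ w ∈ gensM, ∀ j : Fin 5, wAct w (ptsP.getD j.val 0) = ptsP.getD j.val 0) ∧
    (∀ k : Fin 256, rf 34 (wAct w0 k.val) = wAct w0 (rf 34 k.val)) ∧
    (∀ j : Fin 5, rf 98 (ptsP.getD j.val 0) = ptsP.getD j.val 0) ∧
    (qm 34 = true ∧ qm 98 = true) := by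
  decide +kernel

theorem gensP_mem {w : List ℕ} (h : w ∈ gensP) : wEl w ∈ CB := mem_CB.2 (ext_vc fun k hk => by
  have hw := words_ok.2.2.2.1 w h
  rw [act_mul, act_mul, (act_β hk).1, (act_okW hw (act_β hk).2).1, (act_okW hw hk).1,
    (act_β (act_okW hw hk).2).1, gens_facts.1 w h ⟨k, hk⟩])

theorem gensM_mem {w : List ℕ} (h : w ∈ gensM) : wEl w ∈ FixP := fun j => by
  rw [(act_okW (words_ok.2.2.2.2 w h) (pts_facts.1 j).1).1, gens_facts.2.1 w h j]

theorem θP_word {w : List ℕ} (h : w ∈ gensP) (k : Fin 5) :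
    wAct w (ptsP.getD k.val 0) = ptsP.getD (θP ⟨wEl w, gensP_mem h⟩ k).val 0 := by
  have hw := words_ok.2.2.2.1 w h
  refine vc_inj (act_okW hw (pts_facts.1 k).1).2 (pts_facts.1 _).1 ?_
  rw [← (act_okW hw (pts_facts.1 k).1).1]
  exact θP_spec ⟨wEl w, gensP_mem h⟩ k

theorem θM_word {w : List ℕ} (h : w ∈ gensM) (k : Fin 5) :
    wAct w (ptsM.getD k.val 0) = ptsM.getD (θM ⟨wEl w, gensM_mem h⟩ k).val 0 := by
  have hw := words_ok.2.2.2.2 w h
  refine vc_inj (act_okW hw (pts_facts.1 k).2.1).2 (pts_facts.1 _).2.1 ?_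
  rw [← (act_okW hw (pts_facts.1 k).2.1).1]
  exact θM_spec ⟨wEl w, gensM_mem h⟩ k

theorem perm_of_pts : ∀ f : Equiv.Perm (Fin 5), ∀ w ∈ gensP ++ gensM ++ [[34], [98]],
    ((∀ k : Fin 5, wAct w (ptsP.getD k.val 0) = ptsP.getD (f k).val 0) → w ∈ gensP ++ [[34]] →
      ((List.finRange 5).map fun k => (f k).val) =
        ((List.finRange 5).map fun k => ptsP.idxOf (wAct w (ptsP.getD k.val 0)))) ∧
    ((∀ k : Fin 5, wAct w (ptsM.getD k.val 0) = ptsM.getD (f k).val 0) → w ∈ gensM ++ [[98]] →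
      ((List.finRange 5).map fun k => (f k).val) =
        ((List.finRange 5).map fun k => ptsM.idxOf (wAct w (ptsM.getD k.val 0)))) := by
  decide +kernel

theorem list_facts :
    (((List.finRange 5).map fun k => ptsP.idxOf (wAct [116, 71] (ptsP.getD k.val 0))) = [4, 3, 2, 1, 0]) ∧
    (((List.finRange 5).map fun k => ptsP.idxOf (wAct [86, 50] (ptsP.getD k.val 0))) = [2, 1, 3, 0, 4]) ∧
    (((List.finRange 5).map fun k => ptsP.idxOf (wAct [34, 101, 50, 116] (ptsP.getD k.val 0))) =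
      [1, 3, 0, 4, 2]) ∧
    (((List.finRange 5).map fun k => ptsM.idxOf (wAct [98, 136] (ptsM.getD k.val 0))) = [1, 0, 3, 2, 4]) ∧
    (((List.finRange 5).map fun k => ptsM.idxOf (wAct [106, 76] (ptsM.getD k.val 0))) = [0, 3, 2, 4, 1]) ∧
    (((List.finRange 5).map fun k => ptsM.idxOf (wAct [226, 68, 196, 46] (ptsM.getD k.val 0))) =
      [3, 0, 1, 4, 2]) := by
  decide +kernel

theorem sign_refl : ∀ f : Equiv.Perm (Fin 5),
    ((∀ k : Fin 5, rf 34 (ptsP.getD k.val 0) = ptsP.getD (f k).val 0) ∨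
      (∀ k : Fin 5, rf 98 (ptsM.getD k.val 0) = ptsM.getD (f k).val 0)) →
      Equiv.Perm.sign f = -1 := by
  decide +kernel

theorem refl34_mem : refl Q8 (vc 34) ∈ CB := mem_CB.2 (ext_vc fun k hk => by
  have hq := gens_facts.2.2.2.2.1
  rw [act_mul, act_mul, (act_β hk).1, act_rf (by norm_num) hq (act_β hk).2,
    act_rf (by norm_num) hq hk, (act_β (rf_lt (by norm_num) hk)).1, gens_facts.2.2.1 ⟨k, hk⟩])

theorem refl98_mem : refl Q8 (vc 98) ∈ FixP := fun j => by
  rw [act_rf (by norm_num) gens_facts.2.2.2.2.2 (pts_facts.1 j).1, gens_facts.2.2.2.1 j]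

/-- The centralizer of `β` in `Ω` induces the alternating group on the fixed subspace. -/
theorem range_θP :
    ((Cfsg.Omega (ZMod 2) ⇑Q8).subgroupOf CB).map θP = alternatingGroup (Fin 5) := by
  refine range_eq CB θP (fun g hg => ?_)
    ![⟨_, gensP_mem (w := [116, 71]) (by decide)⟩, ⟨_, gensP_mem (w := [86, 50]) (by decide)⟩,
      ⟨_, gensP_mem (w := [34, 101, 50, 116]) (by decide)⟩] ⟨_, refl34_mem⟩ ?_
    (refl_not_mem (by norm_num) gens_facts.2.2.2.2.1) ?_ ⟨?_, ?_, ?_⟩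
  · obtain ⟨i, hi⟩ := θP_ker hg
    rw [hi]; exact pow_mem β_mem i
  · intro i
    fin_cases i <;> exact (okW_mem (words_ok.2.2.2.1 _ (by decide))).2
  · refine sign_refl _ (Or.inl fun k => vc_inj (rf_lt (by norm_num) (pts_facts.1 k).1) (pts_facts.1 _).1 ?_)
    rw [← act_rf (by norm_num) gens_facts.2.2.2.2.1 (pts_facts.1 k).1]
    exact θP_spec ⟨_, refl34_mem⟩ k
  · refine List.mem_cons.2 (Or.inl ?_)
    exact ((perm_of_pts _ [116, 71] (by decide)).1 (θP_word (by decide)) (by decide)).trans list_facts.1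
  · refine List.mem_cons.2 (Or.inl ?_)
    exact ((perm_of_pts _ [86, 50] (by decide)).1 (θP_word (by decide)) (by decide)).trans list_facts.2.1
  · refine List.mem_cons.2 (Or.inl ?_)
    exact ((perm_of_pts _ [34, 101, 50, 116] (by decide)).1 (θP_word (by decide)) (by decide)).trans
      list_facts.2.2.1

/-- The stabiliser of the fixed subspace in `Ω` induces the alternating group on the moved one. -/
theorem range_θM :
    ((Cfsg.Omega (ZMod 2) ⇑Q8).subgroupOf FixP).map θM = alternatingGroup (Fin 5) := by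
  refine range_eq FixP θM (fun g hg => ?_)
    ![⟨_, gensM_mem (w := [98, 136]) (by decide)⟩, ⟨_, gensM_mem (w := [106, 76]) (by decide)⟩,
      ⟨_, gensM_mem (w := [226, 68, 196, 46]) (by decide)⟩] ⟨_, refl98_mem⟩ ?_
    (refl_not_mem (by norm_num) gens_facts.2.2.2.2.2) ?_ ⟨?_, ?_, ?_⟩
  · rw [θM_ker hg]; exact one_mem _
  · intro i
    fin_cases i <;> exact (okW_mem (words_ok.2.2.2.2 _ (by decide))).2
  · refine sign_refl _ (Or.inr fun k => vc_inj (rf_lt (by norm_num) (pts_facts.1 k).2.1) (pts_facts.1 _).2.1 ?_)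
    rw [← act_rf (by norm_num) gens_facts.2.2.2.2.2 (pts_facts.1 k).2.1]
    exact θM_spec ⟨_, refl98_mem⟩ k
  · refine List.mem_cons.2 (Or.inr (List.mem_cons.2 (Or.inl ?_)))
    exact ((perm_of_pts _ [98, 136] (by decide)).2 (θM_word (by decide)) (by decide)).trans
      list_facts.2.2.2.1
  · refine List.mem_cons.2 (Or.inr (List.mem_cons.2 (Or.inl ?_)))
    exact ((perm_of_pts _ [106, 76] (by decide)).2 (θM_word (by decide)) (by decide)).trans
      list_facts.2.2.2.2.1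
  · refine List.mem_cons.2 (Or.inr (List.mem_cons.2 (Or.inl ?_)))
    exact ((perm_of_pts _ [226, 68, 196, 46] (by decide)).2 (θM_word (by decide)) (by decide)).trans
      list_facts.2.2.2.2.2

end Cfsg.Agent.Co1FiveCent36
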