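import Cfsg.Agent.Co1FiveCent36.Local

/-!
The centralizer of `R` and of its conjugate at `s` is an alternating group of degree five.
-/

set_option autoImplicit false
set_option maxRecDepth 100000

namespace Cfsg.Agent.Co1FiveCent36

open QuadraticMap Cfsg.Agent.Reflections Cfsg.Agent.LargeExtraspecial
open Cfsg.Agent.LargeExt10 Cfsg.Agent.LargeExt10.Co
open Cfsg.Agent.Forms59.Inv

variable {G : Type*} [Group G] [Finite G] {z : G} {Q : Subgroup G}

namespace Cfg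

variable {D : Co z Q} {b : G} (C : Cfg D b)

/-- The centralizer of `R`. -/
noncomputable def M : Subgroup G := Subgroup.centralizer (C.R : Set G)

/-- The centralizer of the counterpart of `R`. -/
noncomputable def Ms : Subgroup G := Subgroup.centralizer (C.Rs : Set G)

/-- The common centralizer. -/
noncomputable def K : Subgroup G := C.M ⊓ C.Ms

/-- The perfect part at `s`. -/
noncomputable def DDs : Subgroup G := C.DD.map (MulAut.conj C.k).toMonoidHom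

variable {C}

theorem kinv_z : C.k⁻¹ * z * C.k = C.F.s :=
  (congrArg (fun u => C.k⁻¹ * u * C.k) C.k_s).symm.trans (by group)

theorem kinv_s : C.k⁻¹ * C.F.s * C.k = z :=
  (congrArg (fun u => C.k⁻¹ * u * C.k) C.k_z).symm.trans (by group)

theorem mem_M {g : G} : g ∈ C.M ↔ ∀ r ∈ C.R, Commute g r := by
  simp only [M, Subgroup.mem_centralizer_iff, SetLike.mem_coe]
  exact ⟨fun h r hr => (h r hr).symm, fun h r hr => (h r hr).symm⟩

theorem mem_Ms {g : G} : g ∈ C.Ms ↔ ∀ r ∈ C.Rs, Commute g r := by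
  simp only [Ms, Subgroup.mem_centralizer_iff, SetLike.mem_coe]
  exact ⟨fun h r hr => (h r hr).symm, fun h r hr => (h r hr).symm⟩

theorem M_cz {g : G} (h : g ∈ C.M) : Commute g z := mem_M.1 h z z_mem

theorem M_cs {g : G} (h : g ∈ C.M) : Commute g C.F.s := mem_M.1 h _ s_mem

theorem s_mem_Rs : C.F.s ∈ C.Rs := mem_Rs.2 ⟨C.F.pair.right.z_mem, C.hs⟩

theorem z_mem_Rs : z ∈ C.Rs := mem_Rs.2 ⟨C.F.pair.z_mem_right, C.five.cz.symm⟩

theorem Ms_cz {g : G} (h : g ∈ C.Ms) : Commute g z := mem_Ms.1 h z z_mem_Rs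

theorem Ms_cs {g : G} (h : g ∈ C.Ms) : Commute g C.F.s := mem_Ms.1 h _ s_mem_Rs

theorem conj_k_iff {u : G} : u ∈ C.Ms ↔ C.k⁻¹ * u * C.k ∈ C.M := by
  rw [mem_Ms, mem_M]
  constructor
  · intro h r hr
    have := h (C.k * r * C.k⁻¹) (C.mem_Rs_iff.2 (by
      rwa [show C.k⁻¹ * (C.k * r * C.k⁻¹) * C.k = r by group]))
    have := (Commute.conj_iff C.k⁻¹).2 this
    rwa [inv_inv, show C.k⁻¹ * (C.k * r * C.k⁻¹) * C.k = r by group] at this
  · intro h r hr
    have := (Commute.conj_iff C.k).2 (h _ (C.mem_Rs_iff.1 hr))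
    rwa [show C.k * (C.k⁻¹ * u * C.k) * C.k⁻¹ = u by group,
      show C.k * (C.k⁻¹ * r * C.k) * C.k⁻¹ = r by group] at this

theorem Ms_DDs {g d : G} (hg : g ∈ C.Ms) (hd : d ∈ C.DDs) : Commute g d := by
  obtain ⟨d, hd', rfl⟩ := hd
  have := (Commute.conj_iff C.k).2 (commute_DD (conj_k_iff.1 hg) hd').symm
  rwa [show C.k * (C.k⁻¹ * g * C.k) * C.k⁻¹ = g by group] at this

theorem mem_DD_of_pow {u : G} (hu : u ∈ C.C1) (h4 : u ^ 4 = 1) : u ∈ C.DD := by
  obtain ⟨d, hd, i, rfl⟩ := C1_cases hu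
  have hc : Commute d (b ^ i) := ((mem_C1.1 (DD_le hd)).1).pow_right i
  rw [hc.mul_pow] at h4
  have hm : (b ^ i) ^ 4 ∈ C.DD := by
    rw [eq_inv_of_mul_eq_one_right h4]
    exact inv_mem (pow_mem hd 4)
  have : b ^ i = ((b ^ i) ^ 4) ^ 4 := by
    rw [← pow_mul, ← pow_mul, pow_eq_pow_mod (i * (4 * 4)) C.five.pow5,
      pow_eq_pow_mod i C.five.pow5, Nat.mul_mod]
    norm_num
  rw [this]
  exact mul_mem hd (pow_mem hm 4)

theorem pow_four (D : Co z Q) {u : G} (hu : u ∈ Q) : u ^ 4 = 1 := by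
  rw [show (4 : ℕ) = 2 * 2 from rfl, pow_mul, pow_two u]
  rcases D.setup.zpowers_cases (D.setup.sq_mem hu) with e | e <;> rw [e, pow_two]
  · exact one_mul 1
  · exact D.setup.z_mul_self

theorem R_mem_DDs {x : G} (hx : x ∈ C.R) (hxs : Commute x C.F.s) : x ∈ C.DDs := by
  rw [DDs, Subgroup.mem_map_equiv, MulAut.conj_symm_apply]
  refine mem_DD_of_pow (mem_C1.2 ⟨(C.k_b.inv_left.mul_left (mem_R.1 hx).2).mul_left C.k_b, ?_⟩) ?_
  · have := (Commute.conj_iff C.k⁻¹).2 hxs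
    rwa [inv_inv, kinv_s] at this
  · rw [show C.k⁻¹ * x * C.k = C.k⁻¹ * x * C.k⁻¹⁻¹ by rw [inv_inv], conj_pow, pow_four D (mem_R.1 hx).1]
    group

theorem Rs_mem_DD {r : G} (hr : r ∈ C.Rs) (hrz : Commute r z) : r ∈ C.DD := by
  refine mem_DD_of_pow (mem_C1.2 ⟨(mem_Rs.1 hr).2, hrz⟩) ?_
  have h := pow_four D (mem_R.1 (C.mem_Rs_iff.1 hr)).1
  rw [show C.k⁻¹ * r * C.k = C.k⁻¹ * r * C.k⁻¹⁻¹ by rw [inv_inv], conj_pow] at h
  exact conj_eq_one_iff.1 h

/-- Conjugates of `Q` with the same centre are equal. -/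
theorem map_eq (D : Co z Q) {g h : G} (e : g * z * g⁻¹ = h * z * h⁻¹) {u : G} (hu : u ∈ Q) :
    h⁻¹ * (g * u * g⁻¹) * h ∈ Q := by
  have hc : Commute (h⁻¹ * g) z := mul_inv_eq_iff_eq_mul.1 (by
    rw [show h⁻¹ * g * z * (h⁻¹ * g)⁻¹ = h⁻¹ * (g * z * g⁻¹) * h by group, e]; group)
  rw [show h⁻¹ * (g * u * g⁻¹) * h = h⁻¹ * g * u * (h⁻¹ * g)⁻¹ by group]
  exact D.setup.conj_mem hc hu

/-- An element moving `z` in `Rs`. -/
theorem exists_t : ∃ t ∈ C.Rs, t * z * t⁻¹ = z * C.F.s := by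
  refine ⟨C.k * C.F.y * C.k⁻¹, C.mem_Rs_iff.2 (by
    rw [show C.k⁻¹ * (C.k * C.F.y * C.k⁻¹) * C.k = C.F.y by group]; exact y_mem), ?_⟩
  calc C.k * C.F.y * C.k⁻¹ * z * (C.k * C.F.y * C.k⁻¹)⁻¹
      = C.k * (C.F.y * (C.k⁻¹ * z * C.k) * C.F.y⁻¹) * C.k⁻¹ := by group
    _ = C.k * (C.F.y * C.F.s * C.F.y⁻¹) * C.k⁻¹ := by
        rw [kinv_z]
    _ = (C.k * z * C.k⁻¹) * (C.k * C.F.s * C.k⁻¹) := by rw [C.F.conj_y_s]; group
    _ = z * C.F.s := by rw [C.k_z, C.k_s, C.F.pair.comm.eq]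

theorem small_of_moved {x t : G} (hx : x ∈ Q) (htz : t * z * t⁻¹ = z * C.F.s)
    (h : t⁻¹ * x * t ∈ Q) : Eqv (D.c x) 0 := by
  have hyz : Commute C.F.y z := (D.setup.z_commute C.F.hy).symm
  have hR : C.F.y⁻¹ * x * C.F.y ∈ C.F.R := by
    rw [C.k_Q, Subgroup.mem_map_equiv, MulAut.conj_symm_apply]
    have e : (C.F.y⁻¹ * t) * z * (C.F.y⁻¹ * t)⁻¹ = C.k * z * C.k⁻¹ := by
      rw [show C.F.y⁻¹ * t * z * (C.F.y⁻¹ * t)⁻¹ = C.F.y⁻¹ * (t * z * t⁻¹) * C.F.y by group, htz,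
        C.k_z, ← C.F.conj_y_s]
      group
    have := map_eq D e h
    rwa [show C.F.y⁻¹ * t * (t⁻¹ * x * t) * (C.F.y⁻¹ * t)⁻¹ = C.F.y⁻¹ * x * C.F.y by group] at this
  have hQ : C.F.y⁻¹ * x * C.F.y ∈ Q := mul_mem (mul_mem (inv_mem C.F.hy) hx) C.F.hy
  have := C.F.inter_small hQ hR
  rwa [D.coords.mul _ (mul_mem (inv_mem C.F.hy) hx) _ C.F.hy, D.coords.mul _ (inv_mem C.F.hy) _ hx,
    D.coords.c_inv C.F.hy, add_comm (D.c C.F.y), add_assoc, add_self_vec, add_zero] at this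

/-! ### The stabiliser of the fixed subspace -/

theorem M_fix (g : ↥C.M) : D.ρ g ∈ FixP := by
  intro j
  obtain ⟨r, hr, hcr⟩ := D.coords.surj (pP j)
  have hrR : r ∈ C.R := mem_R.2 ⟨hr, (C.five.commute_iff hr).2 (by rw [hcr, β_fix])⟩
  rw [← hcr, D.ρ_act (M_cz g.2) hr, (mem_M.1 g.2 r hrR).eq, mul_inv_cancel_right]

variable (C) in
/-- The action on the moved subspace. -/
noncomputable def ψ : ↥C.M →* Equiv.Perm (Fin 5) :=
  θM.comp
    { toFun := fun g => (⟨D.ρ g, M_fix g⟩ : ↥FixP)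
      map_one' := Subtype.ext D.rho_one
      map_mul' := fun g h => Subtype.ext (D.ρ_mul (M_cz g.2) (M_cz h.2)) }

theorem ψ_spec (g : ↥C.M) (j : Fin 5) : act (D.ρ g) (pM j) = pM (C.ψ g j) :=
  θM_spec ⟨D.ρ g, M_fix g⟩ j

theorem ψ_ker (g : ↥C.M) : C.ψ g = 1 ↔ (g : G) ∈ Q := by
  constructor
  · intro h
    exact (D.ρ_ker (M_cz g.2)).1 (congrArg Subtype.val (θM_ker (g := ⟨D.ρ g, M_fix g⟩) h))
  · intro h
    refine Equiv.ext fun j => pM_inj ?_
    rw [← ψ_spec, (D.ρ_ker (M_cz g.2)).2 h, act_one]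
    rfl

set_option synthInstance.maxSize 4000 in
theorem span_facts :
    (∀ a b c d : Bool, ∃ k : Fin 256, wAct w0 k.val = k.val ∧
      orth (ptsP.getD 1 0) k.val = a ∧ orth (ptsP.getD 2 0) k.val = b ∧
      orth (ptsP.getD 3 0) k.val = c ∧ orth (ptsP.getD 4 0) k.val = d) ∧
    wAct w0 34 = 34 ∧ wAct w0 70 = 70 ∧
    (∀ j : Fin 5, orth 34 (ptsM.getD j.val 0) = true ∧ orth 70 (ptsM.getD j.val 0) = true) ∧
    (∀ k : Fin 256, qm k.val = false → orth k.val 1 = true → orth k.val 34 = true →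
      orth k.val 70 = true → same k.val 0 = false → ∃ j : Fin 5, same k.val (ptsM.getD j.val 0) = true) ∧
    (∀ i j : Fin 5, same (ptsM.getD i.val 0) (ptsM.getD j.val 0) = true → i = j) ∧
    (∀ j : Fin 5, orth (ptsM.getD j.val 0) 1 = true ∧ same (ptsM.getD j.val 0) 0 = false) ∧
    (∀ k : Fin 256, orth k.val 1 = true → ∃ m : Fin 512, cmb ([1, 34, 70] ++ ptsM) m.val = k.val) ∧
    (∀ k : Fin 256, orth k.val 1 = true → orth k.val 16 = true → orth k.val 34 = true →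
      orth k.val 70 = true → ∀ j : Fin 5, orth (ptsP.getD j.val 0) k.val = true) := by
  decide +kernel

theorem plane_facts : ∀ a ∈ (List.range 256).filter (fun a => wAct w0 a == a && orth a 1),
    ∀ c ∈ (List.range 256).filter (fun a => wAct w0 a == a && orth a 1), orth a c = false →
      ∀ k : Fin 256, orth k.val 1 = true → orth k.val a = true → orth k.val c = true →
        orth k.val 34 = true ∧ orth k.val 70 = true := by
  decide +kernel

theorem M_surj {σ : Equiv.Perm (Fin 5)} (hσ : σ ∈ alternatingGroup (Fin 5)) :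
    ∃ g, C.ψ g = σ := by
  rw [← range_θM] at hσ
  obtain ⟨γ, hγ, rfl⟩ := hσ
  obtain ⟨g, hg, hρ⟩ := D.ρ_surj (γ := γ.1) hγ
  have hr : ∀ j, ∃ r ∈ C.R, D.c r = pP j := fun j => by
    obtain ⟨r, hr, hcr⟩ := D.coords.surj (pP j)
    exact ⟨r, mem_R.2 ⟨hr, (C.five.commute_iff hr).2 (by rw [hcr, β_fix])⟩, hcr⟩
  choose r hrR hrc using hr
  have hcase : ∀ j, ∃ e : Bool, g * r j * g⁻¹ = if e then r j else r j * z := fun j => by
    have hq := D.setup.conj_mem hg (mem_R.1 (hrR j)).1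
    have he : D.c (r j) = D.c (g * r j * g⁻¹) := by
      rw [← D.ρ_act hg (mem_R.1 (hrR j)).1, hρ, hrc, γ.2 j]
    rcases D.setup.zpowers_cases ((D.coords.eq_iff (mem_R.1 (hrR j)).1 hq).1 he) with e | e
    · exact ⟨true, (inv_mul_eq_one.1 e).symm⟩
    · exact ⟨false, eq_mul_of_inv_mul_eq e⟩
  choose e he using hcase
  obtain ⟨k, hk, hk1, hk2, hk3, hk4⟩ := span_facts.1 (e 1) (e 2) (e 3) (e 4)
  obtain ⟨q, hq, hcq⟩ := D.coords.surj (vc k.val)
  have hqz : Commute q z := (D.setup.z_commute hq).symm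
  have hgz : Commute (q * g) z := hqz.mul_left hg
  have hcomm : ∀ j : Fin 5, orth (ptsP.getD j.val 0) k.val = e j → Commute (q * g) (r j) := by
    intro j hj
    refine mul_inv_eq_iff_eq_mul.1 ?_
    rw [show q * g * r j * (q * g)⁻¹ = q * (g * r j * g⁻¹) * q⁻¹ by group, he j]
    have hzq : q * z * q⁻¹ = z := by rw [hqz.eq, mul_inv_cancel_right]
    have hcm := D.coords.comm q hq (r j) (mem_R.1 (hrR j)).1
    rw [hcq, hrc, show polar (⇑Q8) (vc k.val) (pP j) = if e j then 0 else 1 by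
      rw [polar_comm, show polar (⇑Q8) (pP j) (vc k.val) = B8 (pP j) (vc k.val) from rfl,
        B_vc (pts_facts.1 j).1 k.isLt, hj]] at hcm
    cases hej : e j with
    | false =>
      simp only [hej, Bool.false_eq_true, if_false, pw_one] at hcm ⊢
      rw [← conj_mul, hzq, mul_inv_eq_iff_eq_mul.1 hcm, mul_assoc, ← (D.setup.z_commute (mem_R.1 (hrR j)).1).eq,
        ← mul_assoc, D.setup.z_mul_self, one_mul]
    | true =>
      simp only [hej, if_true, pw_zero] at hcm ⊢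
      exact mul_inv_eq_one.1 hcm
  have hM : q * g ∈ C.M := by
    rw [mem_M]
    let W : AddSubgroup V8 :=
      { carrier := {v | ∃ x : G, x ∈ C.R ∧ Commute (q * g) x ∧ D.c x = v}
        zero_mem' := ⟨1, one_mem _, Commute.one_right _, D.coords.c_one⟩
        add_mem' := by
          rintro u v ⟨x, hx, hc, rfl⟩ ⟨x', hx', hc', rfl⟩
          exact ⟨x * x', mul_mem hx hx', hc.mul_right hc', D.coords.mul _ (mem_R.1 hx).1 _ (mem_R.1 hx').1⟩
        neg_mem' := by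
          rintro u ⟨x, hx, hc, rfl⟩
          exact ⟨x, hx, hc, (neg_eq_of_add_eq_zero_left (add_self_vec _)).symm⟩ }
    have hp : ∀ j : Fin 5, pP j ∈ W := by
      have h14 : ∀ j : Fin 5, orth (ptsP.getD j.val 0) k.val = e j → pP j ∈ W := fun j hj =>
        ⟨r j, hrR j, hcomm j hj, hrc j⟩
      intro j
      fin_cases j
      · have : pP 0 = (pP 1 + pP 2) + (pP 3 + pP 4) := by
          simp only [pP, ← vc_xor]
          exact congrArg vc fixed_span.2.2.1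
        show pP 0 ∈ W
        rw [this]
        exact add_mem (add_mem (h14 1 hk1) (h14 2 hk2)) (add_mem (h14 3 hk3) (h14 4 hk4))
      · exact h14 1 hk1
      · exact h14 2 hk2
      · exact h14 3 hk3
      · exact h14 4 hk4
    intro x hx
    obtain ⟨l, hl, hlx⟩ := vc_surj (D.c x)
    have hfix : wAct w0 l = l := vc_inj (act_β hl).2 hl (by
      rw [← (act_β hl).1, hlx]; exact (C.five.commute_iff (mem_R.1 hx).1).1 (mem_R.1 hx).2)
    obtain ⟨m, hm⟩ := fixed_span.1 ⟨l, hl⟩ hfix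
    replace hm : cmb ptsP m.val = l := hm
    have hcmb : ∀ (L : List ℕ) (i : ℕ), (∀ c ∈ L, vc c ∈ W) → vc (cmb L i) ∈ W := by
      intro L
      induction L with
      | nil => intro i _; rw [cmb, vc_zero]; exact zero_mem W
      | cons c L ih' =>
        intro i hL
        rw [cmb, vc_xor]
        refine add_mem ?_ (ih' _ fun x hx => hL x (List.mem_cons_of_mem _ hx))
        split
        · exact hL c List.mem_cons_self
        · rw [vc_zero]; exact zero_mem W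
    obtain ⟨x', hx', hc', hcx⟩ : vc l ∈ W := hm ▸ hcmb _ _ fun c hc => by
      obtain ⟨j, rfl⟩ := fixed_span.2.2.2.1 c hc
      exact hp j
    rw [hlx] at hcx
    rcases D.setup.zpowers_cases ((D.coords.eq_iff (mem_R.1 hx').1 (mem_R.1 hx).1).1 hcx) with e | e
    · rw [← inv_mul_eq_one.1 e]; exact hc'
    · rw [eq_mul_of_inv_mul_eq e]; exact hc'.mul_right hgz
  refine ⟨⟨q * g, hM⟩, congrArg θM (Subtype.ext ?_)⟩
  show D.ρ (q * g) = γ.1
  rw [D.ρ_mul hqz hg, (D.ρ_ker hqz).2 hq, one_mul, hρ]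

theorem ψ_even (g : ↥C.M) : C.ψ g ∈ alternatingGroup (Fin 5) := by
  rw [← range_θM]
  exact ⟨⟨D.ρ g, M_fix g⟩, D.ρ_mem (M_cz g.2), rfl⟩

theorem range_ψ : C.ψ.range = alternatingGroup (Fin 5) :=
  le_antisymm (by rintro _ ⟨g, rfl⟩; exact ψ_even g) fun σ hσ => M_surj hσ

/-! ### The stabiliser at `s` -/

theorem exists_rPlane {a : ℕ} (ha : a < 256) (hfix : wAct w0 a = a) (h0 : B8 (vc a) v0 = 0) :
    ∃ r ∈ C.Rs, Commute r z ∧ r ∈ fixIn C.F.R z ∧ Eqv (C.F.av r) (vc a) := by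
  obtain ⟨r, hr, hav⟩ := C.F.exists_r h0
  have hS := Frame.sig_of_mem hr
  have hbs : Commute b C.F.s := C.hs.symm
  obtain ⟨hr', hav'⟩ := C.F.av_conj C.five.cz hbs hr
  rw [C.five.rho] at hav'
  have hb : act β (vc a) = vc a := by rw [(act_β ha).1, hfix]
  have h0' : act β v0 = v0 := β_fix 0
  have heq : Eqv (C.F.av (b * r * b⁻¹)) (C.F.av r) := by
    refine hav'.trans ?_
    have := hav.map h0'
    rw [hb] at this
    exact this.trans hav.symm
  have hρ := (Frame.sig_of_mem hr').rho_eq hS heq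
  have hq : r⁻¹ * (b * r * b⁻¹) ∈ Q := (D.ρ_ker (hS.cz.inv_left.mul_left (Frame.sig_of_mem hr').cz)).1 (by
    rw [D.ρ_mul hS.cz.inv_left (Frame.sig_of_mem hr').cz, hρ, D.rho_inv hS.cz, inv_mul_cancel])
  obtain ⟨i, j, hel⟩ := C.F.eq_el_of_small hq (C.F.inter_small hq
    (mul_mem (inv_mem (mem_fixIn.1 hr).1) (mem_fixIn.1 hr').1))
  have he : b * r * b⁻¹ = r * el z C.F.s i j := eq_mul_of_inv_mul_eq hel
  have heb : b * el z C.F.s i j * b⁻¹ = el z C.F.s i j := by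
    rw [(C.F.el_commute C.five.cz hbs i j).eq, mul_inv_cancel_right]
  have step : ∀ n : ℕ, b ^ n * r * (b ^ n)⁻¹ = r * el z C.F.s i j ^ n := by
    intro n
    induction n with
    | zero => simp
    | succ n ih =>
      calc b ^ (n + 1) * r * (b ^ (n + 1))⁻¹ = b * (b ^ n * r * (b ^ n)⁻¹) * b⁻¹ := by
            rw [pow_succ']; group
        _ = (b * r * b⁻¹) * (b * el z C.F.s i j * b⁻¹) ^ n := by rw [ih, conj_pow]; group
        _ = r * el z C.F.s i j ^ (n + 1) := by rw [he, heb, pow_succ', mul_assoc]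
  have h5 := step 5
  have hsq : el z C.F.s i j * el z C.F.s i j = 1 := by
    rw [C.F.el_mul, zadd2, zadd2, C.F.el_zero]
  rw [C.five.pow5, inv_one, one_mul, mul_one, show (5 : ℕ) = 2 * 2 + 1 from rfl, pow_succ, pow_mul,
    pow_two (el z C.F.s i j), hsq, one_pow, one_mul, left_eq_mul] at h5
  rw [h5, mul_one, mul_inv_eq_iff_eq_mul] at he
  exact ⟨r, mem_Rs.2 ⟨(mem_fixIn.1 hr).1, he.symm⟩, hS.cz, hr, hav⟩

theorem va_fix : (wAct w0 34 = 34 ∧ wAct w0 70 = 70) := ⟨span_facts.2.1, span_facts.2.2.1⟩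

theorem exists_xPlane {a : ℕ} (ha : a < 256) (hfix : wAct w0 a = a) (h0 : B8 (vc a) v0 = 0) :
    ∃ x ∈ C.R, Commute x C.F.s ∧ D.c x = vc a := by
  obtain ⟨x, hx, hc⟩ := D.coords.surj (vc a)
  exact ⟨x, mem_R.2 ⟨hx, (C.five.commute_iff hx).2 (by rw [hc, (act_β ha).1, hfix])⟩,
    (C.F.commute_s_iff hx).2 (by rw [hc]; exact h0), hc⟩

/-- The planes at `z` and at `s`. -/
structure Planes where
  ra : G
  rb : G
  xa : G
  xb : G
  hra : ra ∈ C.Rs ∧ ra ∈ fixIn C.F.R z ∧ Eqv (C.F.av ra) cType.va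
  hrb : rb ∈ C.Rs ∧ rb ∈ fixIn C.F.R z ∧ Eqv (C.F.av rb) cType.vb
  hxa : xa ∈ C.R ∧ Commute xa C.F.s ∧ D.c xa = cType.va
  hxb : xb ∈ C.R ∧ Commute xb C.F.s ∧ D.c xb = cType.vb

theorem exists_planes : Nonempty (C.Planes) := by
  obtain ⟨ra, h1, -, h2, h3⟩ := C.exists_rPlane (a := 34) (by norm_num) va_fix.1 cType.va_perp
  obtain ⟨rb, h4, -, h5, h6⟩ := C.exists_rPlane (a := 70) (by norm_num) va_fix.2 cType.vb_perp
  obtain ⟨xa, h7, h8, h9⟩ := C.exists_xPlane (a := 34) (by norm_num) va_fix.1 cType.va_perp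
  obtain ⟨xb, g1, g2, g3⟩ := C.exists_xPlane (a := 70) (by norm_num) va_fix.2 cType.vb_perp
  exact ⟨⟨ra, rb, xa, xb, ⟨h1, h2, h3⟩, ⟨h4, h5, h6⟩, ⟨h7, h8, h9⟩, ⟨g1, g2, g3⟩⟩⟩

/-- Elements of `C(z, s)` fixing `va` and `vb` modulo `v0`. -/
def Good (C : Cfg D b) (u : G) : Prop :=
  Commute u z ∧ Commute u C.F.s ∧ Eqv (act (D.ρ u) cType.va) cType.va ∧
    Eqv (act (D.ρ u) cType.vb) cType.vb

theorem Ms_good {u : G} (hu : u ∈ C.Ms) : C.Good u := by
  obtain ⟨P⟩ := C.exists_planes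
  have key : ∀ {r : G} {v : V8}, r ∈ C.Rs → r ∈ fixIn C.F.R z → Eqv (C.F.av r) v →
      Eqv (act (D.ρ u) v) v := by
    intro r v h1 h2 h3
    have h := (C.F.av_conj (Ms_cz hu) (Ms_cs hu) h2).2
    rw [(mem_Ms.1 hu r h1).eq, mul_inv_cancel_right] at h
    exact ((h3.map (C.F.rho_fix (Ms_cz hu) (Ms_cs hu))).symm.trans h.symm).trans h3
  exact ⟨Ms_cz hu, Ms_cs hu, key P.hra.1 P.hra.2.1 P.hra.2.2, key P.hrb.1 P.hrb.2.1 P.hrb.2.2⟩

theorem M_good {u : G} (hu : u ∈ C.M) : C.Good u := by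
  obtain ⟨P⟩ := C.exists_planes
  have key : ∀ {x : G} {v : V8}, x ∈ C.R → D.c x = v → Eqv (act (D.ρ u) v) v := by
    intro x v h1 h2
    left
    rw [← h2, D.ρ_act (M_cz hu) (mem_R.1 h1).1, (mem_M.1 hu x h1).eq, mul_inv_cancel_right]
  exact ⟨M_cz hu, M_cs hu, key P.hxa.1 P.hxa.2.2, key P.hxb.1 P.hxb.2.2⟩

theorem good_pM {u : G} (hu : C.Good u) (j : Fin 5) : ∃ l, Eqv (act (D.ρ u) (pM j)) (pM l) := by
  obtain ⟨hz, hs, ha, hb⟩ := hu
  have hfix := C.F.rho_fix hz hs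
  obtain ⟨k, hk, hkv⟩ := vc_surj (act (D.ρ u) (pM j))
  have hj := pts_facts.1 j
  have h0 : B8 (vc k) v0 = 0 := by
    rw [hkv, B8]; conv_lhs => arg 3; rw [← hfix]
    rw [act_polar]
    exact B_of_orth hj.2.1 (by norm_num) (span_facts.2.2.2.2.2.2.1 j).1
  have horth : ∀ {v : V8}, Eqv (act (D.ρ u) v) v → B8 v (pM j) = 0 → B8 (vc k) v = 0 := by
    intro v hv hvj
    rw [B8, polar_comm, ← show B8 (act (D.ρ u) v) (vc k) = polar (⇑Q8) v (vc k) from hv.polar_eq h0]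
    rw [hkv, B8, act_polar]
    exact hvj
  have e34 := horth ha (B_of_orth cType.a_lt hj.2.1 (span_facts.2.2.2.1 j).1)
  have e70 := horth hb (B_of_orth cType.b_lt hj.2.1 (span_facts.2.2.2.1 j).2)
  have hne : same k 0 = false := by
    refine Bool.eq_false_iff.2 fun h => ?_
    have h' : Eqv (act (D.ρ u) (pM j)) 0 := by rw [← hkv, ← vc_zero]; exact vc_same h
    have := h'.map (γ := (D.ρ u)⁻¹) (by conv_lhs => rw [← hfix, act_inv_act])
    rw [act_inv_act, act_zero] at this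
    rw [← vc_zero] at this
    exact Bool.false_ne_true
      ((span_facts.2.2.2.2.2.2.1 j).2.symm.trans (same_of_eqv hj.2.1 (by norm_num) this))
  have hq : qm k = false := qm_false hk (by rw [hkv, act_Q]; exact Q_pM j)
  obtain ⟨l, hl⟩ := span_facts.2.2.2.2.1 ⟨k, hk⟩ hq (orth_true hk (by norm_num) h0)
    (orth_true hk (by norm_num) e34) (orth_true hk (by norm_num) e70) hne
  exact ⟨l, hkv ▸ vc_same hl⟩

theorem eqv_pM_inj {i j : Fin 5} (h : Eqv (pM i) (pM j)) : i = j :=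
  span_facts.2.2.2.2.2.1 i j (same_of_eqv (pts_facts.1 i).2.1 (pts_facts.1 j).2.1 h)

/-- The permutation of the five moved vectors modulo `v0`. -/
noncomputable def permS {u : G} (hu : C.Good u) : Equiv.Perm (Fin 5) :=
  Equiv.ofBijective (fun j => (good_pM hu j).choose)
    (Finite.injective_iff_bijective.1 fun i j e => eqv_pM_inj (by
      have hi := (good_pM hu i).choose_spec
      have hj := (good_pM hu j).choose_spec
      rw [show (good_pM hu i).choose = (good_pM hu j).choose from e] at hi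
      have hfix := C.F.rho_fix hu.1 hu.2.1
      have := (hi.trans hj.symm).map (γ := (D.ρ u)⁻¹) (by conv_lhs => rw [← hfix, act_inv_act])
      rwa [act_inv_act, act_inv_act] at this))

theorem permS_spec {u : G} (hu : C.Good u) (j : Fin 5) :
    Eqv (act (D.ρ u) (pM j)) (pM (permS hu j)) :=
  (good_pM hu j).choose_spec

theorem permS_eq {u : G} (hu : C.Good u) {σ : Equiv.Perm (Fin 5)}
    (h : ∀ j, Eqv (act (D.ρ u) (pM j)) (pM (σ j))) : permS hu = σ :=
  Equiv.ext fun j => eqv_pM_inj ((permS_spec hu j).symm.trans (h j))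

variable (C) in
/-- The action of the stabiliser at `s` on the moved subspace modulo `v0`. -/
noncomputable def ψs : ↥C.Ms →* Equiv.Perm (Fin 5) where
  toFun u := permS (Ms_good u.2)
  map_one' := permS_eq _ fun j => by
    rw [Subgroup.coe_one, D.rho_one, act_one, Equiv.Perm.one_apply]
    exact Or.inl rfl
  map_mul' u v := permS_eq _ fun j => by
    rw [Subgroup.coe_mul, D.ρ_mul (Ms_cz u.2) (Ms_cz v.2), act_mul, Equiv.Perm.mul_apply]
    exact ((permS_spec (Ms_good v.2) j).map (C.F.rho_fix (Ms_cz u.2) (Ms_cs u.2))).trans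
      (permS_spec (Ms_good u.2) _)

theorem ψs_spec (u : ↥C.Ms) (j : Fin 5) : Eqv (act (D.ρ u) (pM j)) (pM (C.ψs u j)) :=
  permS_spec (Ms_good u.2) j

/-- An element fixing everything modulo `v0` acts as a transvection. -/
theorem sig_of_trivial {u : G} (hu : C.Good u) (hM : ∀ j, Eqv (act (D.ρ u) (pM j)) (pM j)) :
    C.F.Sig u := by
  obtain ⟨hz, hs, ha, hb⟩ := hu
  have hfix := C.F.rho_fix hz hs
  have hsmall : ∀ v, B8 v v0 = 0 → Eqv (act (D.ρ u) v) v := by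
    intro v hv
    obtain ⟨k, hk, rfl⟩ := vc_surj v
    obtain ⟨m, hm⟩ := span_facts.2.2.2.2.2.2.2.1 ⟨k, hk⟩ (orth_true hk (by norm_num) hv)
    replace hm : cmb ([1, 34, 70] ++ ptsM) m.val = k := hm
    rw [← hm]
    have : ∀ (L : List ℕ) (i : ℕ), (∀ c ∈ L, Eqv (act (D.ρ u) (vc c)) (vc c)) →
        Eqv (act (D.ρ u) (vc (cmb L i))) (vc (cmb L i)) := by
      intro L
      induction L with
      | nil => intro i _; rw [cmb, vc_zero, act_zero]; exact Or.inl rfl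
      | cons c L ih =>
        intro i hL
        rw [cmb, vc_xor, act_add]
        refine Eqv.add ?_ (ih _ fun x hx => hL x (List.mem_cons_of_mem _ hx))
        split
        · exact hL c List.mem_cons_self
        · rw [vc_zero, act_zero]; exact Or.inl rfl
    refine this _ _ fun c hc => ?_
    simp only [List.mem_append, List.mem_cons, List.not_mem_nil, or_false] at hc
    rcases hc with (rfl | rfl | rfl) | hc
    · exact Or.inl hfix
    · exact ha
    · exact hb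
    · obtain ⟨j, rfl⟩ := fixed_span.2.2.2.2 c hc
      exact hM j
  refine ⟨hz, hs, eq_one_of_fix_hyp fun v hv => ?_, fun v hv => ?_⟩
  · rw [act_mul]
    rcases hsmall v hv with e | e
    · rw [e, e]
    · rw [e, act_add, e, hfix, add_assoc, add_self_vec, add_zero]
  · rw [nmap_apply]
    rcases hsmall v hv with e | e <;> rw [e]
    · exact Or.inl (add_self_vec _)
    · exact Or.inr (by rw [add_right_comm, add_self_vec, zero_add])

/-- The parts of an element centralizing the planes are orthogonal to them. -/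
theorem decompose_perp {u : G} (hS : C.F.Sig u) (P : C.Planes)
    (h1 : Commute u P.ra) (h2 : Commute u P.rb) (h3 : Commute u P.xa) (h4 : Commute u P.xb) :
    ∃ r x, r ∈ fixIn C.F.R z ∧ x ∈ Q ∧ Commute x C.F.s ∧ u = r * x ∧
      Commute r P.ra ∧ Commute r P.rb ∧ B8 (D.c x) cType.va = 0 ∧ B8 (D.c x) cType.vb = 0 := by
  obtain ⟨r, x, hr, hx, hxs, hu, -, -⟩ := hS.decompose
  have hcz : ∀ i j : ZMod 2, r * el z C.F.s i j * r⁻¹ = el z C.F.s i j := fun i j => by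
    rw [(C.F.el_commute (Frame.sig_of_mem hr).cz (Frame.sig_of_mem hr).cs i j).eq, mul_inv_cancel_right]
  have hR : ∀ {r0 : G} {v : V8}, r0 ∈ fixIn C.F.R z → Eqv (C.F.av r0) v → B8 v v0 = 0 →
      Commute u r0 → Commute r r0 ∧ B8 (D.c x) v = 0 := by
    intro r0 v h0 hv hvp hc
    have e1 := (Frame.comm_R hr h0).1
    have e2 : x * r0 * x⁻¹ * r0⁻¹ = el z C.F.s (B8 (C.F.av r0) (D.c x)) (B8 (C.F.av r0) (D.c x)) :=
      Frame.inv_of_el (Frame.comm_RQ h0 hx hxs)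
    have h : r * (x * r0 * x⁻¹ * r0⁻¹) * r⁻¹ * (r * r0 * r⁻¹ * r0⁻¹) = 1 := by
      calc r * (x * r0 * x⁻¹ * r0⁻¹) * r⁻¹ * (r * r0 * r⁻¹ * r0⁻¹) = u * r0 * u⁻¹ * r0⁻¹ := by
            rw [hu]; group
        _ = 1 := by rw [hc.eq, mul_inv_cancel_right, mul_inv_cancel]
    rw [e2, hcz, e1, C.F.el_mul, ← C.F.el_zero] at h
    obtain ⟨hd, he⟩ := C.F.el_inj h
    rw [add_zero] at hd
    rw [hd, zero_add] at he
    refine ⟨?_, ?_⟩
    · rw [he, C.F.el_zero] at e1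
      exact mul_inv_eq_iff_eq_mul.1 (mul_inv_eq_one.1 e1)
    · rw [B8, polar_comm, ← show B8 (C.F.av r0) (D.c x) = polar (⇑Q8) v (D.c x) from
        hv.polar_eq ((C.F.commute_s_iff hx).1 hxs)]
      exact hd
  obtain ⟨a1, a2⟩ := hR P.hra.2.1 P.hra.2.2 cType.va_perp h1
  obtain ⟨b1, b2⟩ := hR P.hrb.2.1 P.hrb.2.2 cType.vb_perp h2
  exact ⟨r, x, hr, hx, hxs, hu, a1, b1, a2, b2⟩

theorem Rs_comm_R {x r : G} (hx : x ∈ C.R) (hxs : Commute x C.F.s) (hr : r ∈ C.Ms) : Commute r x :=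
  Ms_DDs hr (R_mem_DDs hx hxs)

theorem M_comm_Rs {r m : G} (hm : m ∈ C.M) (hr : r ∈ C.Rs) (hrz : Commute r z) : Commute m r :=
  (commute_DD hm (Rs_mem_DD hr hrz)).symm

theorem Planes.cz_ra (P : C.Planes) : Commute P.ra z := (mem_fixIn.1 P.hra.2.1).2

theorem Planes.cz_rb (P : C.Planes) : Commute P.rb z := (mem_fixIn.1 P.hrb.2.1).2

theorem ψs_ker {u : ↥C.Ms} (h : C.ψs u = 1) : (u : G) ∈ C.F.R := by
  obtain ⟨P⟩ := C.exists_planes
  have hS := sig_of_trivial (Ms_good u.2) fun j => by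
    have := ψs_spec u j
    rwa [h] at this
  obtain ⟨r, x, hr, hx, hxs, hu, -, -, -, -⟩ := decompose_perp hS P (mem_Ms.1 u.2 _ P.hra.1)
    (mem_Ms.1 u.2 _ P.hrb.1) (Rs_comm_R P.hxa.1 P.hxa.2.1 u.2) (Rs_comm_R P.hxb.1 P.hxb.2.1 u.2)
  obtain ⟨t, ht, htz⟩ := C.exists_t
  have htR := (mem_Rs.1 ht).1
  have hrR := (mem_fixIn.1 hr).1
  have hc : Commute (u : G) t := mem_Ms.1 u.2 t ht
  have h1 : t⁻¹ * x * t ∈ Q := by
    have e : t⁻¹ * x * t = (t⁻¹ * r * t)⁻¹ * r * x := by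
      have : t⁻¹ * (u : G) * t = u := by rw [mul_assoc, hc.eq, inv_mul_cancel_left]
      rw [hu] at this
      calc t⁻¹ * x * t = (t⁻¹ * r * t)⁻¹ * (t⁻¹ * (r * x) * t) := by group
        _ = _ := by rw [this]; group
    rw [e]
    refine mul_mem ?_ hx
    rcases C.F.pair.right.conj_cases (inv_mem htR) hrR with e' | e' <;> rw [inv_inv] at e' <;> rw [e']
    · rw [inv_mul_cancel]; exact one_mem Q
    · rw [mul_inv_rev, mul_assoc]
      have hsr : C.F.s⁻¹ * r = r * C.F.s⁻¹ := ((Frame.sig_of_mem hr).cs.symm.inv_left).eq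
      rw [hsr, ← mul_assoc, inv_mul_cancel, one_mul]
      exact inv_mem C.F.pair.mem
  obtain ⟨i, j, he⟩ := C.F.eq_el_of_small hx (small_of_moved hx htz h1)
  rw [hu, he]
  exact mul_mem hrR (C.F.el_mem i j).2

theorem Ms_surj {σ : Equiv.Perm (Fin 5)} (hσ : σ ∈ alternatingGroup (Fin 5)) : ∃ u, C.ψs u = σ := by
  haveI := alternatingGroup.isSimpleGroup (α := Fin 5) (by simp)
  have hA : Nat.card ↥(alternatingGroup (Fin 5)) = 60 := by
    rw [nat_card_alternatingGroup, Nat.card_eq_fintype_card]; decide +kernel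
  have hMs : Nat.card C.Ms = Nat.card C.M := by
    have : C.Ms = C.M.map (MulAut.conj C.k).toMonoidHom := by
      ext u
      rw [Subgroup.mem_map_equiv, MulAut.conj_symm_apply, conj_k_iff]
    rw [this]
    exact Subgroup.card_map_of_injective (MulAut.conj C.k).injective
  have hker : Nat.card C.ψs.ker ≤ Nat.card C.ψ.ker := by
    let f : C.ψs.ker → C.ψ.ker := fun u =>
      ⟨⟨C.k⁻¹ * (u : ↥C.Ms).1 * C.k, conj_k_iff.1 (u : ↥C.Ms).2⟩, MonoidHom.mem_ker.2 ((ψ_ker _).2 (by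
        have := ψs_ker (MonoidHom.mem_ker.1 u.2)
        rw [C.k_Q, Subgroup.mem_map_equiv, MulAut.conj_symm_apply] at this
        exact this))⟩
    refine Nat.card_le_card_of_injective f fun u v h => ?_
    have : C.k⁻¹ * (u : ↥C.Ms).1 * C.k = C.k⁻¹ * (v : ↥C.Ms).1 * C.k :=
      congrArg (fun w : C.ψ.ker => ((w : ↥C.M) : G)) h
    exact Subtype.ext (Subtype.ext (mul_left_cancel (mul_right_cancel this)))
  have h1 := C.ψ.ker.card_mul_index
  rw [Subgroup.index_ker, range_ψ, hA] at h1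
  have h2 := C.ψs.ker.card_mul_index
  rw [Subgroup.index_ker, hMs, ← h1] at h2
  have h60 : 60 ≤ Nat.card C.ψs.range := by
    have hpos : 0 < Nat.card C.ψs.ker := Nat.card_pos
    by_contra hlt
    push Not at hlt
    have := Nat.mul_lt_mul_of_pos_left hlt hpos
    have := Nat.mul_le_mul_right 60 hker
    omega
  have hidx := C.ψs.range.card_mul_index
  rw [show Nat.card (Equiv.Perm (Fin 5)) = 120 by
    rw [Nat.card_eq_fintype_card]; decide +kernel] at hidx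
  have hn : C.ψs.range.Normal := by
    have hi : C.ψs.range.index ≤ 2 := by
      by_contra hlt
      push Not at hlt
      have := Nat.mul_le_mul h60 hlt
      omega
    have hi0 : 1 ≤ C.ψs.range.index := Nat.one_le_iff_ne_zero.2 Subgroup.index_ne_zero_of_finite
    interval_cases hv : C.ψs.range.index
    · rw [Subgroup.index_eq_one.1 hv]; infer_instance
    · exact Subgroup.normal_of_index_eq_two hv
  rcases IsSimpleGroup.eq_bot_or_eq_top_of_normal (C.ψs.range.subgroupOf (alternatingGroup (Fin 5)))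
    (Subgroup.normal_subgroupOf) with h | h
  · exfalso
    rw [Subgroup.subgroupOf_eq_bot, disjoint_iff] at h
    have hle : Nat.card C.ψs.range ≤ 2 := by
      have hinj : Function.Injective (Equiv.Perm.sign.comp C.ψs.range.subtype) := by
        rw [← MonoidHom.ker_eq_bot_iff, eq_bot_iff]
        intro x hx
        rw [Subgroup.mem_bot]
        have hmem : (x : Equiv.Perm (Fin 5)) ∈ C.ψs.range ⊓ alternatingGroup (Fin 5) :=
          ⟨x.2, Equiv.Perm.mem_alternatingGroup.2 (MonoidHom.mem_ker.1 hx)⟩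
        rw [h, Subgroup.mem_bot] at hmem
        exact Subtype.ext hmem
      refine le_trans (Nat.card_le_card_of_injective _ hinj) ?_
      rw [Nat.card_eq_fintype_card]
      decide
    omega
  · have := h.ge (Subgroup.mem_top (⟨σ, hσ⟩ : alternatingGroup (Fin 5)))
    exact this

/-! ### The common centralizer -/

theorem K_inter {x : G} (hx : x ∈ C.K) (hxQ : x ∈ Q) : x = 1 := by
  obtain ⟨hM, hMs⟩ := Subgroup.mem_inf.1 hx
  obtain ⟨t, ht, htz⟩ := C.exists_t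
  have hc : Commute x t := mem_Ms.1 hMs t ht
  have h1 : Eqv (D.c x) 0 := small_of_moved hxQ htz (by
    rw [mul_assoc, hc.eq, inv_mul_cancel_left]; exact hxQ)
  obtain ⟨i, j, rfl⟩ := C.F.eq_el_of_small hxQ h1
  have hj : j = 0 := by
    have := (D.commute_iff hxQ C.F.hy).1 (mem_M.1 hM _ y_mem)
    rw [C.F.c_el, C.F.hcy, B8, polar_smul_left, show polar (⇑Q8) v0 yy = 1 by
      rw [polar_comm]; exact B_yy, smul_eq_mul, mul_one] at this
    exact this
  subst hj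
  rw [el, pw_zero, mul_one] at hc ⊢
  rcases pw_cases z i with ⟨-, e⟩ | ⟨-, e⟩
  · exact e
  · exfalso
    rw [e] at hc
    refine C.F.pair.not_mem ?_
    have : z * C.F.s = z := htz ▸ (by rw [← hc.eq, mul_inv_cancel_right])
    rw [mul_eq_left] at this
    rw [this]; exact one_mem _

theorem K_surj {σ : Equiv.Perm (Fin 5)} (hσ : σ ∈ alternatingGroup (Fin 5)) :
    ∃ g : ↥C.M, (g : G) ∈ C.K ∧ C.ψ g = σ := by
  obtain ⟨P⟩ := C.exists_planes
  obtain ⟨m, hm⟩ := M_surj (C := C) hσ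
  obtain ⟨n, hn⟩ := Ms_surj (C := C) hσ
  set w := (n : G) * (m : G)⁻¹ with hw
  obtain ⟨hgmz, hgms, hma, hmb⟩ := M_good (inv_mem m.2)
  obtain ⟨hgnz, hgns, hna, hnb⟩ := Ms_good n.2
  have hfixn := C.F.rho_fix hgnz hgns
  have hgood : C.Good w := ⟨hgnz.mul_left hgmz, hgns.mul_left hgms,
    by rw [D.ρ_mul hgnz hgmz, act_mul]; exact (hma.map hfixn).trans hna,
    by rw [D.ρ_mul hgnz hgmz, act_mul]; exact (hmb.map hfixn).trans hnb⟩
  have hS := sig_of_trivial hgood fun j => by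
    rw [D.ρ_mul hgnz hgmz, act_mul]
    have e1 : act (D.ρ (m : G)⁻¹) (pM j) = pM (σ⁻¹ j) := by
      rw [show ((m : G)⁻¹) = ((m⁻¹ : ↥C.M) : G) from rfl, ψ_spec, map_inv, hm]
    rw [e1]
    have := ψs_spec n (σ⁻¹ j)
    rwa [hn, show σ (σ⁻¹ j) = j from σ.apply_symm_apply j] at this
  have hcom : ∀ {r0 : G}, Commute (n : G) r0 → Commute (m : G) r0 → Commute w r0 := fun a b =>
    a.mul_left b.inv_left
  obtain ⟨r, x, hr, hx, hxs, hu, hra, hrb, hxa, hxb⟩ := decompose_perp hS P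
    (hcom (mem_Ms.1 n.2 _ P.hra.1) (M_comm_Rs m.2 P.hra.1 P.cz_ra))
    (hcom (mem_Ms.1 n.2 _ P.hrb.1) (M_comm_Rs m.2 P.hrb.1 P.cz_rb))
    (hcom (Rs_comm_R P.hxa.1 P.hxa.2.1 n.2) (mem_M.1 m.2 _ P.hxa.1))
    (hcom (Rs_comm_R P.hxb.1 P.hxb.2.1 n.2) (mem_M.1 m.2 _ P.hxb.1))
  -- an element of `Q` orthogonal to `v0, va, vb` lies in `⟨s⟩ (Q ∩ M)`
  have fixq : ∀ {q : G}, q ∈ Q → B8 (D.c q) v0 = 0 → B8 (D.c q) cType.va = 0 →
      B8 (D.c q) cType.vb = 0 → ∃ j : ZMod 2, q * pw C.F.s j ∈ C.M := by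
    intro q hq h0 hqa hqb
    obtain ⟨j, hj⟩ : ∃ j : ZMod 2, B8 (D.c (q * pw C.F.s j)) yy = 0 := by
      rcases bit (B8 (D.c q) yy) with e | e
      · exact ⟨0, by rw [pw_zero, mul_one, e]⟩
      · refine ⟨1, ?_⟩
        rw [pw_one, D.coords.mul _ hq _ C.F.pair.mem, C.F.hs, B8, polar_add_left,
          show polar (⇑Q8) v0 yy = 1 by rw [polar_comm]; exact B_yy]
        rw [show polar (⇑Q8) (D.c q) yy = 1 from e]; exact zadd2 1
    refine ⟨j, mem_M.2 fun r0 hr0 => ?_⟩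
    have hsQ : pw C.F.s j ∈ Q := by
      rcases pw_cases C.F.s j with ⟨-, e⟩ | ⟨-, e⟩ <;> rw [e]
      exacts [one_mem Q, C.F.pair.mem]
    have hq' := mul_mem hq hsQ
    refine (D.commute_iff hq' (mem_R.1 hr0).1).2 ?_
    obtain ⟨k, hk, hkc⟩ := vc_surj (D.c (q * pw C.F.s j))
    have hadd : ∀ v : V8, B8 v0 v = 0 → B8 (D.c q) v = 0 → B8 (D.c (q * pw C.F.s j)) v = 0 := by
      intro v h1 h2
      rw [D.coords.mul _ hq _ hsQ, B8, polar_add_left, show polar (⇑Q8) (D.c q) v = 0 from h2, zero_add]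
      rcases pw_cases C.F.s j with ⟨-, e⟩ | ⟨-, e⟩ <;> rw [e]
      · rw [D.coords.c_one, polar_zero_left]
      · rw [C.F.hs]; exact h1
    have hperp : ∀ i : Fin 5, B8 (pP i) (vc k) = 0 := fun i =>
      B_of_orth (pts_facts.1 i).1 hk (span_facts.2.2.2.2.2.2.2.2 ⟨k, hk⟩
        (orth_true hk (by norm_num) (hkc ▸ hadd v0 (polar_self_two _ _) h0))
        (orth_true hk (by norm_num) (hkc ▸ hj))
        (orth_true hk (by norm_num) (hkc ▸ hadd _ (by rw [B8, polar_comm]; exact cType.va_perp) hqa))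
        (orth_true hk (by norm_num) (hkc ▸ hadd _ (by rw [B8, polar_comm]; exact cType.vb_perp) hqb)) i)
    obtain ⟨l, hl, hlc⟩ := vc_surj (D.c r0)
    have hfix : wAct w0 l = l := vc_inj (act_β hl).2 hl (by
      rw [← (act_β hl).1, hlc]; exact (C.five.commute_iff (mem_R.1 hr0).1).1 (mem_R.1 hr0).2)
    obtain ⟨mm, hmm⟩ := fixed_span.1 ⟨l, hl⟩ hfix
    replace hmm : cmb ptsP mm.val = l := hmm
    have : ∀ (L : List ℕ) (i : ℕ), (∀ c ∈ L, B8 (vc c) (vc k) = 0) → B8 (vc (cmb L i)) (vc k) = 0 := by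
      intro L
      induction L with
      | nil => intro i _; rw [cmb, vc_zero, B8, polar_zero_left]
      | cons c L ih =>
        intro i hL
        rw [cmb, vc_xor, B8, polar_add_left,
          show polar (⇑Q8) (vc (cmb L (i / 2))) (vc k) = 0 from
            ih _ fun x hx => hL x (List.mem_cons_of_mem _ hx), add_zero]
        split
        · exact hL c List.mem_cons_self
        · rw [vc_zero, polar_zero_left]
    rw [← hkc, ← hlc, ← hmm, B8, polar_comm]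
    exact this _ _ fun c hc => by
      obtain ⟨i, rfl⟩ := fixed_span.2.2.2.1 c hc
      exact hperp i
  obtain ⟨jx, hjx⟩ := fixq hx ((C.F.commute_s_iff hx).1 hxs) hxa hxb
  -- the part at `s`
  set q := C.k⁻¹ * r * C.k with hq
  have hqQ : q ∈ Q := by
    have := (mem_fixIn.1 hr).1
    rwa [C.k_Q, Subgroup.mem_map_equiv, MulAut.conj_symm_apply] at this
  have hkz : C.k⁻¹ * z * C.k = C.F.s := kinv_z
  have hconj : ∀ {u v : G}, Commute u v → Commute (C.k⁻¹ * u * C.k) (C.k⁻¹ * v * C.k) := by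
    intro u v h
    have := (Commute.conj_iff C.k⁻¹).2 h
    rwa [inv_inv] at this
  have hqs : B8 (D.c q) v0 = 0 := by
    rw [← C.F.hs]
    exact (D.commute_iff hqQ C.F.pair.mem).1 (hkz ▸ hconj (mem_fixIn.1 hr).2)
  have hAR := C.mem_Rs_iff.1 P.hra.1
  have hBR := C.mem_Rs_iff.1 P.hrb.1
  obtain ⟨a, ha, hac⟩ := vc_surj (D.c (C.k⁻¹ * P.ra * C.k))
  obtain ⟨c, hc, hcc⟩ := vc_surj (D.c (C.k⁻¹ * P.rb * C.k))
  have hmem : ∀ {e : ℕ} {u : G}, e < 256 → u ∈ C.Rs → Commute u z →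
      vc e = D.c (C.k⁻¹ * u * C.k) →
      e ∈ (List.range 256).filter (fun a => wAct w0 a == a && orth a 1) := by
    intro e u he hu huz hec
    have hR := C.mem_Rs_iff.1 hu
    refine List.mem_filter.2 ⟨List.mem_range.2 he, ?_⟩
    rw [Bool.and_eq_true, beq_iff_eq]
    refine ⟨vc_inj (act_β he).2 he ?_, orth_true he (by norm_num) ?_⟩
    · rw [← (act_β he).1, hec]; exact (C.five.commute_iff (mem_R.1 hR).1).1 (mem_R.1 hR).2
    · rw [hec, show vc 1 = D.c C.F.s from C.F.hs.symm]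
      exact (D.commute_iff (mem_R.1 hR).1 C.F.pair.mem).1 (hkz ▸ hconj huz)
  have hac1 : orth a c = false := by
    refine Bool.eq_false_iff.2 fun h => ?_
    have hcm : Commute (C.k⁻¹ * P.ra * C.k) (C.k⁻¹ * P.rb * C.k) :=
      (D.commute_iff (mem_R.1 hAR).1 (mem_R.1 hBR).1).2 (by rw [← hac, ← hcc]; exact B_of_orth ha hc h)
    have hcm' : Commute P.ra P.rb := by
      have := (Commute.conj_iff C.k).2 hcm
      rwa [show C.k * (C.k⁻¹ * P.ra * C.k) * C.k⁻¹ = P.ra by group,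
        show C.k * (C.k⁻¹ * P.rb * C.k) * C.k⁻¹ = P.rb by group] at this
    have e1 := (Frame.comm_R P.hra.2.1 P.hrb.2.1).1
    rw [hcm'.eq, mul_inv_cancel_right, mul_inv_cancel, ← C.F.el_zero] at e1
    have e2 := (C.F.el_inj e1).2
    rw [show B8 (C.F.av P.ra) (C.F.av P.rb) = 1 by
      rw [show B8 (C.F.av P.ra) (C.F.av P.rb) = B8 cType.va (C.F.av P.rb) from
          P.hra.2.2.polar_eq (Frame.sig_of_mem P.hrb.2.1).av_perp, B8, polar_comm,
        show polar (⇑Q8) (C.F.av P.rb) cType.va = polar (⇑Q8) cType.vb cType.va from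
          P.hrb.2.2.polar_eq cType.va_perp, polar_comm]
      exact B_one cType.a_lt cType.b_lt (by decide +kernel)] at e2
    exact zero_ne_one e2
  obtain ⟨k, hk, hkc⟩ := vc_surj (D.c q)
  have hperp := plane_facts a (hmem ha P.hra.1 P.cz_ra hac) c (hmem hc P.hrb.1 P.cz_rb hcc) hac1
    ⟨k, hk⟩ (orth_true hk (by norm_num) (hkc.symm ▸ hqs))
    (orth_true hk ha (by
      rw [hkc, hac]; exact (D.commute_iff hqQ (mem_R.1 hAR).1).1 (hconj hra)))
    (orth_true hk hc (by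
      rw [hkc, hcc]; exact (D.commute_iff hqQ (mem_R.1 hBR).1).1 (hconj hrb)))
  obtain ⟨jr, hjr⟩ := fixq hqQ hqs (hkc ▸ B_of_orth hk cType.a_lt hperp.1)
    (hkc ▸ B_of_orth hk cType.b_lt hperp.2)
  have hrMs : r * pw z jr ∈ C.Ms := by
    rw [conj_k_iff]
    have : C.k⁻¹ * pw z jr * C.k = pw C.F.s jr := by
      rcases pw_cases z jr with ⟨e', e⟩ | ⟨e', e⟩ <;> rw [e, e']
      · rw [pw_zero]; group
      · rw [pw_one]; exact hkz
    rw [show C.k⁻¹ * (r * pw z jr) * C.k = q * (C.k⁻¹ * pw z jr * C.k) by rw [hq]; group, this]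
    exact hjr
  have hzR : ∀ i, pw z i ∈ C.M ∧ pw C.F.s i ∈ C.Ms ∧ pw z i * pw z i = 1 ∧ pw C.F.s i * pw C.F.s i = 1 := by
    intro i
    have h1 : z ∈ C.M := mem_M.2 fun r hr => D.setup.z_commute (mem_R.1 hr).1
    have h2 : C.F.s ∈ C.Ms := mem_Ms.2 fun r hr => C.F.pair.right.z_commute (mem_Rs.1 hr).1
    rcases pw_cases z i with ⟨e, e'⟩ | ⟨e, e'⟩
    · subst e; rw [pw_zero, pw_zero]
      exact ⟨one_mem _, one_mem _, one_mul 1, one_mul 1⟩
    · subst e; rw [pw_one, pw_one]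
      exact ⟨h1, h2, D.setup.z_mul_self, C.F.pair.right.z_mul_self⟩
  -- `w = (r z^jr s^jx) (z^jr x s^jx)`
  set g := pw z jr * (x * pw C.F.s jx) * (m : G) with hg
  have hgM : g ∈ C.M := mul_mem (mul_mem (hzR jr).1 hjx) m.2
  have e : g = (r * pw z jr * pw C.F.s jx)⁻¹ * n := by
    have hn' : (n : G) = r * x * m := by rw [← hu, hw, inv_mul_cancel_right]
    have hxc : Commute x (pw C.F.s jx) := by
      rcases pw_cases C.F.s jx with ⟨-, e⟩ | ⟨-, e⟩ <;> rw [e]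
      exacts [Commute.one_right x, hxs]
    have hzs : Commute (pw z jr) (pw C.F.s jx) := by
      rcases pw_cases z jr with ⟨-, e⟩ | ⟨-, e⟩ <;> rw [e]
      · exact Commute.one_left _
      · rcases pw_cases C.F.s jx with ⟨-, e⟩ | ⟨-, e⟩ <;> rw [e]
        exacts [Commute.one_right z, C.F.pair.comm]
    have h2 : (pw z jr * pw C.F.s jx) * (pw z jr * pw C.F.s jx) = 1 := by
      rw [hzs.symm.mul_mul_mul_comm, (hzR jr).2.2.1, (hzR jx).2.2.2, one_mul]
    rw [hg, hn', eq_inv_mul_iff_mul_eq, hxc.eq,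
      show r * pw z jr * pw C.F.s jx * (pw z jr * (pw C.F.s jx * x) * (m : G)) =
        r * ((pw z jr * pw C.F.s jx) * (pw z jr * pw C.F.s jx)) * x * m by group, h2, mul_one]
  refine ⟨⟨g, hgM⟩, ⟨hgM, (congrArg (· ∈ C.Ms) e).mpr (mul_mem (inv_mem (mul_mem hrMs (hzR jx).2.1)) n.2)⟩, ?_⟩
  have hqM : pw z jr * (x * pw C.F.s jx) ∈ C.M := mul_mem (hzR jr).1 hjx
  have hQ' : pw z jr * (x * pw C.F.s jx) ∈ Q := by
    refine mul_mem ?_ (mul_mem hx ?_)
    · rcases pw_cases z jr with ⟨-, e⟩ | ⟨-, e⟩ <;> rw [e]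
      exacts [one_mem Q, D.setup.z_mem]
    · rcases pw_cases C.F.s jx with ⟨-, e⟩ | ⟨-, e⟩ <;> rw [e]
      exacts [one_mem Q, C.F.pair.mem]
  rw [show (⟨g, hgM⟩ : ↥C.M) = ⟨_, hqM⟩ * m from Subtype.ext hg, map_mul, (ψ_ker ⟨_, hqM⟩).2 hQ',
    one_mul, hm]

theorem exists_K_equiv : Nonempty (↥C.K ≃* ↥(alternatingGroup (Fin 5))) := by
  let f : ↥C.K →* ↥(alternatingGroup (Fin 5)) :=
    (C.ψ.comp (Subgroup.inclusion (show C.K ≤ C.M from inf_le_left))).codRestrict _ fun g => ψ_even _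
  refine ⟨MulEquiv.ofBijective f ⟨?_, ?_⟩⟩
  · refine (injective_iff_map_eq_one f).2 fun g hg => Subtype.ext ?_
    exact K_inter g.2 ((ψ_ker ⟨g.1, g.2.1⟩).1 (congrArg Subtype.val hg))
  · intro σ
    obtain ⟨g, hg, e⟩ := K_surj (C := C) σ.2
    exact ⟨⟨g, hg⟩, Subtype.ext e⟩

end Cfg

end Cfsg.Agent.Co1FiveCent36
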